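import Cfsg.Agent.PSqPlus.Design

/-!
# A doubly transitive group on `p² + 1` points with an imprimitive point stabiliser
-/

set_option autoImplicit false

namespace Cfsg.Agent.PSqPlus

open MulAction

/-- The hypotheses. -/
structure Setup (G : Type*) [Group G] (Ω : Type*) [MulAction G Ω] (p : ℕ) where
  prime : p.Prime
  odd : p ≠ 2
  card : Nat.card Ω = p ^ 2 + 1
  trans : ∀ x y x' y' : Ω, x ≠ y → x' ≠ y' → ∃ g : G, g • x = x' ∧ g • y = y'
  faithful : FaithfulSMul G Ω
  a : Ω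
  blk : Ω → Set Ω
  mem : ∀ b, b ≠ a → b ∈ blk b
  not_mem : ∀ b, b ≠ a → a ∉ blk b
  size : ∀ b, b ≠ a → (blk b).ncard = p
  blk_eq : ∀ b c, b ≠ a → c ∈ blk b → blk c = blk b
  equiv : ∀ (g : G) (b c : Ω), g • a = a → b ≠ a → c ∈ blk b → g • c ∈ blk (g • b)

variable {G : Type*} [Group G] [Finite G] {Ω : Type*} [Finite Ω] [MulAction G Ω] {p : ℕ}

namespace Setup

variable (S : Setup G Ω p)

include S in
theorem three_le : 3 ≤ p := by have := S.prime.two_le; have := S.odd; omega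

theorem ne_of_mem {b c : Ω} (hb : b ≠ S.a) (hc : c ∈ S.blk b) : c ≠ S.a :=
  fun h => S.not_mem b hb (h ▸ hc)

theorem exists_ne : ∃ b : Ω, b ≠ S.a := by
  have : Nontrivial Ω := Finite.one_lt_card_iff_nontrivial.1 (by
    rw [S.card]; have := S.prime.pos; have := Nat.pow_pos (n := 2) this; omega)
  exact _root_.exists_ne S.a

theorem smul_ne {g : G} (hg : g • S.a = S.a) {b : Ω} (hb : b ≠ S.a) : g • b ≠ S.a :=
  fun h => hb (MulAction.injective g (h.trans hg.symm))

theorem eq_one_of_forall {g : G} (hg : g • S.a = S.a) (h : ∀ b, b ≠ S.a → g • b = b) : g = 1 :=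
  S.faithful.eq_of_smul_eq_smul fun x => by
    rw [one_smul]
    by_cases hx : x = S.a
    · exact hx ▸ hg
    · exact h x hx

/-- Stabiliser of every block. -/
def K : Subgroup G where
  carrier := {g | g • S.a = S.a ∧ ∀ b, b ≠ S.a → g • b ∈ S.blk b}
  one_mem' := ⟨one_smul _ _, fun b hb => by rw [one_smul]; exact S.mem b hb⟩
  mul_mem' := by
    rintro g h ⟨hg, hg'⟩ ⟨hh, hh'⟩
    refine ⟨by rw [mul_smul, hh, hg], fun b hb => ?_⟩
    rw [mul_smul, ← S.blk_eq b _ hb (hh' b hb)]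
    exact hg' _ (S.smul_ne hh hb)
  inv_mem' := by
    rintro g ⟨hg, hg'⟩
    have hi : g⁻¹ • S.a = S.a := by rw [inv_smul_eq_iff, hg]
    refine ⟨hi, fun b hb => ?_⟩
    have hc := S.smul_ne hi hb
    have h := hg' _ hc
    rw [smul_inv_smul] at h
    rw [S.blk_eq _ _ hc h]
    exact S.mem _ hc

theorem mem_K {g : G} : g ∈ S.K ↔ g • S.a = S.a ∧ ∀ b, b ≠ S.a → g • b ∈ S.blk b := Iff.rfl

theorem K_le : S.K ≤ stabilizer G S.a := fun _ hg => hg.1

theorem K_normal {h k : G} (hh : h • S.a = S.a) (hk : k ∈ S.K) : h * k * h⁻¹ ∈ S.K := by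
  have hi : h⁻¹ • S.a = S.a := by rw [inv_smul_eq_iff, hh]
  refine ⟨by rw [mul_smul, mul_smul, hi, hk.1, hh], fun b hb => ?_⟩
  have := S.equiv h _ _ hh (S.smul_ne hi hb) (hk.2 _ (S.smul_ne hi hb))
  rw [smul_inv_smul] at this
  rwa [mul_smul, mul_smul]

theorem blk_smul {g : G} (hg : g • S.a = S.a) {b : Ω} (hb : b ≠ S.a) :
    (fun z => g • z) '' S.blk b = S.blk (g • b) := by
  refine Set.eq_of_subset_of_ncard_le (by rintro _ ⟨c, hc, rfl⟩; exact S.equiv g b c hg hb hc) ?_
  rw [Set.ncard_image_of_injective _ (MulAction.injective g), S.size b hb, S.size _ (S.smul_ne hg hb)]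

theorem orbit_stabilizer_subgroup (P : Subgroup G) (b : Ω) :
    Nat.card (orbit P b) * Nat.card ↥(P ⊓ stabilizer G b) = Nat.card P := by
  have h1 : Nat.card (orbit P b) * Nat.card (stabilizer P b) = Nat.card P := by
    rw [← Nat.card_prod, Nat.card_congr (orbitProdStabilizerEquivGroup P b)]
  have h2 : stabilizer P b = (stabilizer G b).subgroupOf P := by ext; rfl
  rw [h2, ← Nat.card_congr (Subgroup.subgroupOfEquivOfLe (inf_le_left : P ⊓ stabilizer G b ≤ P)).toEquiv] at *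
  rwa [Subgroup.inf_subgroupOf_left]

theorem orbit_stab : {b : Ω | b ≠ S.a}.ncard = p ^ 2 := by
  have : {b : Ω | b ≠ S.a} = ({S.a} : Set Ω)ᶜ := by ext; simp
  rw [this, Set.ncard_compl, Set.ncard_singleton, S.card]
  omega

theorem card_stab {b : Ω} (hb : b ≠ S.a) :
    Nat.card (stabilizer G S.a) = p ^ 2 * Nat.card (two S.a b : Subgroup G) := by
  rw [← orbit_stabilizer_subgroup (stabilizer G S.a) b, show
    stabilizer G S.a ⊓ stabilizer G b = two S.a b from rfl]
  congr 1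
  rw [← S.orbit_stab, Nat.card_coe_set_eq]
  congr 1
  ext x
  constructor
  · rintro ⟨⟨g, hg⟩, rfl⟩
    exact S.smul_ne hg hb
  · intro hx
    obtain ⟨g, hg1, hg2⟩ := S.trans S.a b S.a x hb.symm (Ne.symm hx)
    exact ⟨⟨g, hg1⟩, hg2⟩

/-- A `p`-subgroup `E` of a two-point stabiliser fixes the block. -/
theorem blk_subset_fix {E : Subgroup G} {b : Ω} (hb : b ≠ S.a) (hE : E ≤ two S.a b)
    (hp : IsPGroup p E) : S.blk b ⊆ fix E := by
  intro c hc g hg
  have : Fact p.Prime := ⟨S.prime⟩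
  obtain ⟨hga, hgb⟩ := hE hg
  have hsub : orbit E c ⊆ S.blk b \ {b} ∨ c = b := by
    by_cases hcb : c = b
    · exact Or.inr hcb
    refine Or.inl ?_
    rintro _ ⟨⟨u, hu⟩, rfl⟩
    obtain ⟨hua, hub⟩ := hE hu
    refine ⟨?_, fun h => hcb ?_⟩
    · have := S.equiv u b c hua hb hc
      rwa [hub] at this
    · exact MulAction.injective u ((Set.mem_singleton_iff.1 h).trans hub.symm)
  rcases hsub with hsub | rfl
  · obtain ⟨k, hk⟩ := hp.card_orbit c
    have hle := Set.ncard_le_ncard hsub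
    rw [Set.ncard_sdiff_singleton_of_mem (S.mem b hb), S.size b hb, ← Nat.card_coe_set_eq, hk] at hle
    have hp0 := S.prime.two_le
    obtain rfl : k = 0 := by
      by_contra h
      have := Nat.le_self_pow h p
      omega
    rw [pow_zero, Nat.card_eq_one_iff_unique] at hk
    have := hk.1.elim ⟨_, mem_orbit c (⟨g, hg⟩ : E)⟩ ⟨c, mem_orbit_self c⟩
    exact congrArg Subtype.val this
  · exact hgb

/-- A fixed point set in a transitive `p`-group. -/
theorem fix_le_normalizer_orbit {P E : Subgroup G} {b : Ω} (hPa : P ≤ stabilizer G S.a)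
    (hb : b ≠ S.a) (hP : ∀ c, c ≠ S.a → ∃ g ∈ P, g • b = c) (hp : IsPGroup p P)
    (hE1 : E ≠ ⊥) (hEa : E ≤ two S.a b)
    (hnorm : ∀ g ∈ P, g • b ∈ fix E → ∀ u, g * u * g⁻¹ ∈ E ↔ u ∈ E) :
    (fix E \ {S.a}).ncard ≤ p := by
  have : Fact p.Prime := ⟨S.prime⟩
  set R : Subgroup G := P ⊓ Subgroup.normalizer (E : Set G)
  have hsub : fix E \ {S.a} ⊆ orbit R b := by
    rintro c ⟨hc, hca⟩
    obtain ⟨g, hg, rfl⟩ := hP c hca
    exact ⟨⟨g, hg, Subgroup.mem_normalizer_iff.2 fun u => (hnorm g hg hc u).symm⟩, rfl⟩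
  refine (Set.ncard_le_ncard hsub).trans ?_
  obtain ⟨k, hk⟩ := (hp.to_le (inf_le_left : R ≤ P)).card_orbit b
  rw [← Nat.card_coe_set_eq, hk]
  have hle : p ^ k ≤ p ^ 2 := by
    rw [← hk, ← S.orbit_stab, Nat.card_coe_set_eq]
    refine Set.ncard_le_ncard ?_
    rintro _ ⟨⟨g, hg⟩, rfl⟩
    exact S.smul_ne (hPa hg.1) hb
  have hk2 : k ≤ 2 := (Nat.pow_le_pow_iff_right S.prime.one_lt).1 hle
  by_contra hcon
  have h2 : k = 2 := by
    rcases Nat.lt_or_ge k 2 with h | h
    · exact absurd (Nat.pow_le_pow_right S.prime.pos (Nat.le_of_lt_succ h)) (by simpa using hcon)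
    · omega
  subst h2
  refine hE1 ((Subgroup.eq_bot_iff_forall E).2 fun u hu => S.eq_one_of_forall (hEa hu).1 fun c hc => ?_)
  have hall : orbit R b = {x : Ω | x ≠ S.a} := by
    refine Set.eq_of_subset_of_ncard_le ?_ ?_
    · rintro _ ⟨⟨g, hg⟩, rfl⟩
      exact S.smul_ne (hPa hg.1) hb
    · rw [S.orbit_stab, ← hk, Nat.card_coe_set_eq]
  obtain ⟨⟨g, hg⟩, rfl⟩ : c ∈ orbit R b := hall ▸ hc
  have h : (g⁻¹ * u * g) • b = b := (hEa ((Subgroup.mem_normalizer_iff''.1 hg.2 u).1 hu)).2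
  rw [mul_smul, mul_smul, inv_smul_eq_iff] at h
  exact h

/-- The Sylow property used for big Sylow subgroups. -/
def SylowOf (p : ℕ) (T E : Subgroup G) : Prop :=
  ∃ e, Nat.card E = p ^ e ∧ ¬ p ^ (e + 1) ∣ Nat.card T

/-- The order of a two-point stabiliser is prime to `p`. -/
theorem not_dvd_two {b : Ω} (hb : b ≠ S.a) : ¬ p ∣ Nat.card (two S.a b : Subgroup G) := by
  have : Fact p.Prime := ⟨S.prime⟩
  intro hdvd
  have hfix : ∀ (c : Ω), c ≠ S.a → ∀ (W : Set Ω), W ∈ lines (SylowOf (G := G) p) p S.a c →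
      W = insert S.a (S.blk c) := by
    rintro c hc W ⟨E, hE, ⟨e, he, -⟩, rfl, hW⟩
    refine (Set.eq_of_subset_of_ncard_le ?_ ?_).symm
    · exact Set.insert_subset (fun g hg => (hE hg).1) (S.blk_subset_fix hc hE (IsPGroup.of_card he))
    · rw [hW, Set.ncard_insert_of_notMem (S.not_mem c hc), S.size c hc]
  obtain ⟨E', hE'⟩ : ∃ E' : Sylow p (two S.a b : Subgroup G), True := ⟨default, trivial⟩
  set E : Subgroup G := (E' : Subgroup (two S.a b : Subgroup G)).map (two S.a b).subtype with hEdef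
  have hEle : E ≤ two S.a b := Subgroup.map_subtype_le _
  have hEcard : Nat.card E = p ^ (Nat.card (two S.a b : Subgroup G)).factorization p := by
    rw [hEdef, Subgroup.card_map_of_injective (two S.a b).subtype_injective, E'.card_eq_multiplicity]
  set e := (Nat.card (two S.a b : Subgroup G)).factorization p with he
  have he1 : 1 ≤ e := (S.prime.dvd_iff_one_le_factorization (Nat.card_pos).ne').1 hdvd
  have hne : E ≠ ⊥ := fun h => by
    rw [h, Subgroup.card_bot] at hEcard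
    exact absurd hEcard.symm (Nat.one_lt_pow (by omega) S.prime.one_lt).ne'
  have hEa : E ≤ stabilizer G S.a := hEle.trans inf_le_left
  obtain ⟨P', hP'⟩ := ((IsPGroup.of_card hEcard).comap_subtype (H := E) (K := stabilizer G S.a)).exists_le_sylow
  set P : Subgroup G := (P' : Subgroup (stabilizer G S.a)).map (stabilizer G S.a).subtype with hPdef
  have hEP : E ≤ P := fun x hx => ⟨⟨x, hEa hx⟩, hP' hx, rfl⟩
  have hPa : P ≤ stabilizer G S.a := Subgroup.map_subtype_le _
  have hPp : IsPGroup p P := P'.2.map _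
  have hPcard : Nat.card P = p ^ (2 + e) := by
    rw [hPdef, Subgroup.card_map_of_injective (stabilizer G S.a).subtype_injective,
      P'.card_eq_multiplicity, S.card_stab hb, Nat.factorization_mul (pow_ne_zero _ S.prime.pos.ne')
      Nat.card_pos.ne', Finsupp.add_apply, S.prime.factorization_pow, Finsupp.single_eq_same]
  have hstab : P ⊓ stabilizer G b = E := by
    refine (Subgroup.eq_of_le_of_card_ge (le_inf hEP (hEle.trans inf_le_right)) ?_).symm
    rw [hEcard]
    obtain ⟨j, hj⟩ := (IsPGroup.iff_card.1 (hPp.to_le (inf_le_left : P ⊓ stabilizer G b ≤ P)))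
    rw [hj]
    refine Nat.pow_le_pow_right S.prime.pos ?_
    rw [he, ← S.prime.pow_dvd_iff_le_factorization Nat.card_pos.ne', ← hj]
    exact Subgroup.card_dvd_of_le fun g hg => ⟨hPa hg.1, hg.2⟩
  have htr : ∀ c, c ≠ S.a → ∃ g ∈ P, g • b = c := by
    intro c hc
    have hsz : Nat.card (orbit P b) = p ^ 2 := by
      have := orbit_stabilizer_subgroup P b
      rw [hstab, hEcard, hPcard, pow_add] at this
      exact Nat.eq_of_mul_eq_mul_right (pow_pos S.prime.pos _) this
    have heq : orbit P b = {x : Ω | x ≠ S.a} := by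
      refine Set.eq_of_subset_of_ncard_le ?_ ?_
      · rintro _ ⟨⟨g, hg⟩, rfl⟩
        exact S.smul_ne (hPa hg) hb
      · rw [S.orbit_stab, ← hsz, Nat.card_coe_set_eq]
    obtain ⟨⟨g, hg⟩, rfl⟩ : c ∈ orbit P b := heq ▸ hc
    exact ⟨g, hg, rfl⟩
  have hnorm : ∀ g ∈ P, g • b ∈ fix E → ∀ u, g * u * g⁻¹ ∈ E ↔ u ∈ E := by
    intro g hg hfx
    have hle : E.map (MulAut.conj g⁻¹).toMonoidHom ≤ E := by
      intro u hu
      rw [mem_map_conj, inv_inv] at hu
      refine hstab ▸ ⟨?_, ?_⟩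
      · simpa [mul_assoc] using P.mul_mem (P.mul_mem (P.inv_mem hg) (hEP hu)) hg
      · have := hfx _ hu
        rw [mul_smul, mul_smul, inv_smul_smul, smul_left_cancel_iff] at this
        exact this
    have heq := Subgroup.eq_of_le_of_card_ge hle (card_map_conj E g⁻¹).ge
    intro u
    conv_rhs => rw [← heq, mem_map_conj, inv_inv]
  have hcard : (fix E : Set Ω).ncard = p + 1 := by
    refine le_antisymm ?_ ?_
    · have := S.fix_le_normalizer_orbit hPa hb htr hPp hne hEle hnorm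
      have := Set.pred_ncard_le_ncard_sdiff_singleton (fix E : Set Ω) S.a
      omega
    · rw [← S.size b hb, ← Set.ncard_insert_of_notMem (S.not_mem b hb)]
      exact Set.ncard_le_ncard (Set.insert_subset (fun g hg => (hEle hg).1)
        (S.blk_subset_fix hb hEle (IsPGroup.of_card hEcard)))
  have hE_mem : fix E ∈ lines (SylowOf (G := G) p) p S.a b :=
    ⟨E, hEle, ⟨e, hEcard, fun h => absurd ((S.prime.pow_dvd_iff_le_factorization Nat.card_pos.ne').1 h)
      (by omega)⟩, rfl, hcard⟩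
  have hQ : Invariant (SylowOf (G := G) p) := fun T E g ⟨e, h1, h2⟩ =>
    ⟨e, (card_map_conj E g).trans h1, by rwa [card_map_conj]⟩
  have hone : (lines (SylowOf (G := G) p) p S.a b).ncard = 1 := by
    rw [Set.ncard_eq_one]
    exact ⟨fix E, Set.ext fun W => ⟨fun hW => (hfix b hb W hW).trans (hfix b hb _ hE_mem).symm,
      fun hW => hW ▸ hE_mem⟩⟩
  have hdvd2 := dvd_two_mul S.card S.prime hQ S.trans S.a b hb.symm fun y z W hW hy hzW hz => by
    have hzb : z ∈ S.blk y := by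
      rw [hfix y hy W hW] at hzW
      exact hzW.resolve_left hz
    obtain ⟨g, hg1, hg2⟩ := S.trans S.a y S.a z hy.symm hz.symm
    have h := line_map hQ g hW
    rw [hg1, hg2] at h
    rwa [hfix z hz _ h, S.blk_eq y z hy hzb, ← hfix y hy W hW] at h
  rw [hone] at hdvd2
  have := Nat.le_of_dvd (by norm_num) hdvd2
  have := S.three_le
  omega

/-- The Sylow `p`-subgroup data. -/
structure Regular (P : Subgroup G) : Prop where
  le : P ≤ stabilizer G S.a
  card : Nat.card P = p ^ 2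
  reg : ∀ b c, b ≠ S.a → c ≠ S.a → ∃! g : G, g ∈ P ∧ g • b = c

theorem exists_regular : ∃ P : Subgroup G, S.Regular P := by
  have : Fact p.Prime := ⟨S.prime⟩
  obtain ⟨b₀, hb₀⟩ := S.exists_ne
  obtain ⟨P', hP'⟩ : ∃ P' : Sylow p (stabilizer G S.a), True := ⟨default, trivial⟩
  set P : Subgroup G := (P' : Subgroup (stabilizer G S.a)).map (stabilizer G S.a).subtype with hPdef
  have hle : P ≤ stabilizer G S.a := Subgroup.map_subtype_le _
  have hcard : Nat.card P = p ^ 2 := by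
    rw [hPdef, Subgroup.card_map_of_injective (stabilizer G S.a).subtype_injective,
      P'.card_eq_multiplicity, S.card_stab hb₀, Nat.factorization_mul (pow_ne_zero _ S.prime.pos.ne')
      Nat.card_pos.ne', Finsupp.add_apply, S.prime.factorization_pow, Finsupp.single_eq_same,
      Nat.factorization_eq_zero_of_not_dvd (S.not_dvd_two hb₀)]
  refine ⟨P, hle, hcard, fun b c hb hc => ?_⟩
  have hfree : ∀ g ∈ P, g • b = b → g = 1 := by
    intro g hg hgb
    have hmem : g ∈ (two S.a b : Subgroup G) := ⟨hle hg, hgb⟩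
    have h1 : orderOf g ∣ p ^ 2 := hcard ▸ Subgroup.orderOf_dvd_natCard P hg
    have h2 : orderOf g ∣ Nat.card (two S.a b : Subgroup G) := Subgroup.orderOf_dvd_natCard _ hmem
    exact orderOf_eq_one_iff.1 (Nat.eq_one_of_dvd_coprimes
      ((S.prime.coprime_iff_not_dvd.2 (S.not_dvd_two hb)).pow_left 2) h1 h2)
  have hbij : Function.Bijective fun g : P => (⟨(g : G) • b, S.smul_ne (hle g.2) hb⟩ : {x : Ω // x ≠ S.a}) := by
    rw [Nat.bijective_iff_injective_and_card]
    refine ⟨fun g h e => ?_, ?_⟩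
    · have e' : (g : G) • b = (h : G) • b := congrArg Subtype.val e
      have := hfree ((h : G)⁻¹ * g) (P.mul_mem (P.inv_mem h.2) g.2) (by
        rw [mul_smul, inv_smul_eq_iff, e'])
      exact Subtype.ext (inv_mul_eq_one.1 this).symm
    · rw [hcard, ← S.orbit_stab, ← Nat.card_coe_set_eq]; rfl
  obtain ⟨g, hg⟩ := hbij.2 ⟨c, hc⟩
  refine ⟨g, ⟨g.2, congrArg Subtype.val hg⟩, fun h ⟨hh, hhc⟩ => ?_⟩
  exact congrArg Subtype.val (@hbij.1 ⟨h, hh⟩ g (hg.symm ▸ Subtype.ext hhc))

end Setup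

end Cfsg.Agent.PSqPlus
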