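import Cfsg.Agent.PSqPlus.Basic

/-!
# The kernel on blocks
-/

set_option autoImplicit false

namespace Cfsg.Agent.PSqPlus

open MulAction

variable {G : Type*} [Group G] [Finite G] {Ω : Type*} [Finite Ω] [MulAction G Ω] {p : ℕ}

namespace Setup

variable {S : Setup G Ω p} {P : Subgroup G}

namespace Regular

variable (R : S.Regular P)

/-- The part of the regular subgroup fixing all blocks. -/
def Z (_R : S.Regular P) : Subgroup G := P ⊓ S.K

include R

theorem smul_a {g : G} (hg : g ∈ P) : g • S.a = S.a := R.le hg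

theorem comm {g h : G} (hg : g ∈ P) (hh : h ∈ P) : g * h = h * g := by
  have : Fact p.Prime := ⟨S.prime⟩
  have := IsPGroup.commutative_of_card_eq_prime_sq (G := P) (p := p) R.card
  exact congrArg Subtype.val (this ⟨g, hg⟩ ⟨h, hh⟩)

theorem exists_mem {b c : Ω} (hb : b ≠ S.a) (hc : c ≠ S.a) : ∃ g ∈ P, g • b = c := by
  obtain ⟨g, hg, -⟩ := R.reg b c hb hc
  exact ⟨g, hg.1, hg.2⟩

theorem eq_one {g : G} {b : Ω} (hg : g ∈ P) (hb : b ≠ S.a) (h : g • b = b) : g = 1 :=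
  (R.reg b b hb hb).unique ⟨hg, h⟩ ⟨P.one_mem, one_smul _ _⟩

theorem mem_Z_of_smul_mem {g : G} {b : Ω} (hg : g ∈ P) (hb : b ≠ S.a) (h : g • b ∈ S.blk b) :
    g ∈ R.Z := by
  refine ⟨hg, R.le hg, fun c hc => ?_⟩
  obtain ⟨w, hw, rfl⟩ := R.exists_mem hb hc
  rw [← mul_smul, R.comm hg hw, mul_smul]
  exact S.equiv w b _ (R.le hw) hb h

theorem blk_iff {b c : Ω} (hb : b ≠ S.a) : c ∈ S.blk b ↔ ∃ z ∈ R.Z, z • b = c := by
  constructor
  · intro hc
    obtain ⟨g, hg, rfl⟩ := R.exists_mem hb (S.ne_of_mem hb hc)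
    exact ⟨g, R.mem_Z_of_smul_mem hg hb hc, rfl⟩
  · rintro ⟨z, hz, rfl⟩
    exact hz.2.2 b hb

theorem card_Z : Nat.card R.Z = p := by
  obtain ⟨b, hb⟩ := S.exists_ne
  refine Eq.trans ?_ (S.size b hb)
  rw [← Nat.card_coe_set_eq]
  refine Nat.card_eq_of_bijective (fun z => ⟨(z : G) • b, (R.blk_iff hb).2 ⟨z, z.2, rfl⟩⟩) ⟨?_, ?_⟩
  · intro z w h
    exact Subtype.ext ((R.reg b _ hb (S.smul_ne (R.le w.2.1) hb)).unique
      ⟨z.2.1, congrArg Subtype.val h⟩ ⟨w.2.1, rfl⟩)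
  · rintro ⟨c, hc⟩
    obtain ⟨z, hz, rfl⟩ := (R.blk_iff hb).1 hc
    exact ⟨⟨z, hz⟩, rfl⟩

theorem isPGroup : IsPGroup p P := IsPGroup.of_card R.card

theorem exists_zpow {z w : G} (hz : z ∈ R.Z) (hz1 : z ≠ 1) (hw : w ∈ R.Z) : ∃ i : ℕ, w = z ^ i := by
  have : Fact p.Prime := ⟨S.prime⟩
  have h := mem_powers_of_prime_card (g := (⟨z, hz⟩ : R.Z)) (g' := ⟨w, hw⟩) R.card_Z
    (fun h => hz1 (congrArg Subtype.val h))
  obtain ⟨i, hi⟩ := h
  exact ⟨i, (congrArg Subtype.val hi).symm⟩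

theorem exists_ne_one : ∃ z ∈ R.Z, z ≠ 1 := by
  by_contra h
  push Not at h
  have h1 : R.Z = ⊥ := (Subgroup.eq_bot_iff_forall _).2 h
  have h2 := R.card_Z
  rw [h1, Subgroup.card_bot] at h2
  exact S.prime.one_lt.ne h2

theorem card_K {b : Ω} (hb : b ≠ S.a) :
    Nat.card S.K = p * Nat.card (S.K ⊓ stabilizer G b : Subgroup G) := by
  rw [← orbit_stabilizer_subgroup S.K b]
  congr 1
  refine Eq.trans ?_ (S.size b hb)
  rw [← Nat.card_coe_set_eq (S.blk b)]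
  refine Nat.card_congr (Equiv.setCongr ?_)
  ext c
  constructor
  · rintro ⟨⟨k, hk⟩, rfl⟩
    exact hk.2 b hb
  · intro hc
    obtain ⟨z, hz, rfl⟩ := (R.blk_iff hb).1 hc
    exact ⟨⟨z, hz.2⟩, rfl⟩

theorem K_inf_le {b : Ω} : S.K ⊓ stabilizer G b ≤ two S.a b := fun _ hk => ⟨hk.1.1, hk.2⟩

/-- `K` is faithful on each block. -/
theorem faithful_K {k : G} {b : Ω} (hb : b ≠ S.a) (hk : k ∈ S.K)
    (h : ∀ c ∈ S.blk b, k • c = c) : k = 1 := by
  have : Fact p.Prime := ⟨S.prime⟩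
  let L : Subgroup S.K := ⨅ c ∈ S.blk b, stabilizer S.K c
  have hL : ∀ g : S.K, g ∈ L ↔ ∀ c ∈ S.blk b, (g : G) • c = c := fun g => by
    simp only [L, Subgroup.mem_iInf]; rfl
  have : L.Normal := ⟨fun g hg u => (hL _).2 fun c hc => by
    have hc' : ((u⁻¹ : S.K) : G) • c ∈ S.blk b := by
      rw [← S.blk_eq b c hb hc]
      exact (u⁻¹ : S.K).2.2 c (S.ne_of_mem hb hc)
    have := (hL g).1 hg _ hc'
    simp only [Subgroup.coe_mul, Subgroup.coe_inv, mul_smul] at this hc' ⊢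
    rw [this, smul_inv_smul]⟩
  have hLp : ¬ p ∣ Nat.card L := by
    intro hd
    refine S.not_dvd_two hb (hd.trans ?_)
    rw [← Subgroup.card_map_of_injective S.K.subtype_injective]
    refine Subgroup.card_dvd_of_le ?_
    rintro _ ⟨g, hg, rfl⟩
    exact ⟨g.2.1, (hL g).1 hg b (S.mem b hb)⟩
  refine S.eq_one_of_forall hk.1 fun c hc => ?_
  let T : Subgroup S.K := stabilizer S.K c
  have hTidx : T.index = p := by
    rw [index_stabilizer]
    refine Eq.trans ?_ (S.size c hc)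
    congr 1
    ext x
    constructor
    · rintro ⟨⟨u, hu⟩, rfl⟩; exact hu.2 c hc
    · intro hx
      obtain ⟨z, hz, rfl⟩ := (R.blk_iff hc).1 hx
      exact ⟨⟨z, hz.2⟩, rfl⟩
  have hTp : ¬ p ∣ Nat.card T := by
    intro hd
    refine S.not_dvd_two hc (hd.trans ?_)
    rw [← Subgroup.card_map_of_injective S.K.subtype_injective]
    refine Subgroup.card_dvd_of_le ?_
    rintro _ ⟨g, hg, rfl⟩
    exact ⟨g.2.1, hg⟩
  have hle : L ≤ T := by
    by_contra hnot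
    have hlt : T < T ⊔ L := lt_of_le_of_ne le_sup_left fun h => hnot (le_sup_right.trans h.ge)
    have htop : T ⊔ L = ⊤ := by
      have hd : (T ⊔ L).index ∣ p := (Subgroup.index_dvd_of_le (le_sup_left : T ≤ T ⊔ L)).trans hTidx.dvd
      rcases (Nat.dvd_prime S.prime).1 hd with h | h
      · exact Subgroup.index_eq_one.1 h
      · exact absurd (Subgroup.index_strictAnti hlt) (by rw [h, hTidx]; exact lt_irrefl p)
    have h1 : L.index ∣ Nat.card T := by
      rw [← Subgroup.relIndex_top_right, ← htop, Subgroup.relIndex_sup_right]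
      exact Subgroup.relIndex_dvd_card _ _
    refine hTp (dvd_trans ?_ h1)
    have h2 : p ∣ Nat.card L * L.index := by
      rw [L.card_mul_index]; exact hTidx.symm.dvd.trans T.index_dvd_card
    exact (S.prime.dvd_mul.1 h2).resolve_left hLp
  exact hle (show (⟨k, hk⟩ : S.K) ∈ L from (hL _).2 h)

/-- The centraliser of `Z` in `K` is `Z`. -/
theorem mem_Z_of_commute {k : G} (hk : k ∈ S.K) (h : ∀ z ∈ R.Z, k * z = z * k) : k ∈ R.Z := by
  obtain ⟨b, hb⟩ := S.exists_ne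
  obtain ⟨z, hz, he⟩ := (R.blk_iff hb).1 (hk.2 b hb)
  have h1 : z⁻¹ * k = 1 := by
    refine R.faithful_K hb (S.K.mul_mem (S.K.inv_mem hz.2) hk) fun c hc => ?_
    obtain ⟨w, hw, rfl⟩ := (R.blk_iff hb).1 hc
    rw [smul_smul, mul_assoc, h w hw, ← mul_assoc, R.comm (P.inv_mem hz.1) hw.1, mul_smul, mul_smul, ← he,
      inv_smul_smul]
  rw [← inv_mul_eq_one.1 h1]
  exact hz

/-- `p` points outside `a`, at most one in each block, meet every block. -/
theorem meets_all {F : Set Ω} (hF : ∀ c ∈ F, c ≠ S.a) (hcard : F.ncard = p)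
    (h1 : ∀ c ∈ F, ∀ d ∈ F, d ∈ S.blk c → c = d) {b : Ω} (hb : b ≠ S.a) :
    ∃ c ∈ F, c ∈ S.blk b := by
  classical
  have := Fintype.ofFinite Ω
  set U : Finset Ω := Finset.univ.filter (fun x => x ≠ S.a) with hU
  set B : Finset (Set Ω) := U.image S.blk with hB
  have hBcard : p ^ 2 = B.card * p := by
    have hUc : U.card = p ^ 2 := by
      rw [← S.orbit_stab, Set.ncard_eq_toFinset_card']
      congr 1
      ext x; simp [hU]
    rw [← hUc, Finset.card_eq_sum_card_image S.blk U, Finset.sum_const_nat]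
    intro β hβ
    obtain ⟨x, hx, rfl⟩ := Finset.mem_image.1 hβ
    have hx' : x ≠ S.a := by simpa [hU] using hx
    refine Eq.trans ?_ (S.size x hx')
    rw [Set.ncard_eq_toFinset_card']
    congr 1
    ext y
    simp only [hU, Finset.mem_filter, Finset.mem_univ, true_and, Set.mem_toFinset]
    exact ⟨fun ⟨hy, e⟩ => e ▸ S.mem y hy, fun hy => ⟨S.ne_of_mem hx' hy, S.blk_eq x y hx' hy⟩⟩
  have hBp : B.card = p := by
    rw [pow_two] at hBcard
    exact (Nat.eq_of_mul_eq_mul_right S.prime.pos hBcard).symm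
  have himg : F.toFinset.image S.blk = B := by
    refine Finset.eq_of_subset_of_card_le (fun β hβ => ?_) ?_
    · obtain ⟨x, hx, rfl⟩ := Finset.mem_image.1 hβ
      exact Finset.mem_image_of_mem _ (by simp [hU, hF x (Set.mem_toFinset.1 hx)])
    · rw [hBp, Finset.card_image_of_injOn, ← Set.ncard_eq_toFinset_card', hcard]
      intro x hx y hy e
      simp only [Finset.mem_coe, Set.mem_toFinset] at hx hy
      exact h1 x hx y hy (e ▸ S.mem y (hF y hy))
  obtain ⟨c, hc, e⟩ := Finset.mem_image.1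
    (himg.symm ▸ (Finset.mem_image_of_mem S.blk (by simp [hU, hb] : b ∈ U)) : S.blk b ∈ F.toFinset.image S.blk)
  rw [Set.mem_toFinset] at hc
  exact ⟨c, hc, e ▸ S.mem c (hF c hc)⟩

/-- Conjugation by the stabiliser preserves `Z`. -/
def ZNormal (R : S.Regular P) : Prop :=
  ∀ h : G, h • S.a = S.a → ∀ z ∈ R.Z, h * z * h⁻¹ ∈ R.Z

theorem commute_of_commute {z : G} (hz : z ∈ R.Z) (hz1 : z ≠ 1) {g : G} (h : Commute g z) :
    ∀ w ∈ R.Z, g * w = w * g := by
  intro w hw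
  obtain ⟨i, rfl⟩ := R.exists_zpow hz hz1 hw
  exact h.pow_right i

theorem conj_comm (hN : R.ZNormal) {g h : G} (hg : g • S.a = S.a) (hh : h • S.a = S.a) :
    ∀ z ∈ R.Z, (g * h) * z * (g * h)⁻¹ = (h * g) * z * (h * g)⁻¹ := by
  intro z hz
  obtain ⟨z₀, hz₀, hz1⟩ := R.exists_ne_one
  obtain ⟨i, hi⟩ := R.exists_zpow hz₀ hz1 (hN g hg z₀ hz₀)
  obtain ⟨j, hj⟩ := R.exists_zpow hz₀ hz1 (hN h hh z₀ hz₀)
  obtain ⟨k, rfl⟩ := R.exists_zpow hz₀ hz1 hz
  have e : ∀ (u v : G) (s t : ℕ), u * z₀ * u⁻¹ = z₀ ^ s → v * z₀ * v⁻¹ = z₀ ^ t →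
      (u * v) * z₀ ^ k * (u * v)⁻¹ = z₀ ^ (s * t * k) := by
    intro u v s t hu hv
    rw [← conj_pow, pow_mul, show u * v * z₀ * (u * v)⁻¹ = u * (v * z₀ * v⁻¹) * u⁻¹ by group,
      hv, ← conj_pow, hu]
    simp only [← pow_mul, mul_assoc]
  rw [e g h i j hi hj, e h g j i hj hi, mul_comm i j]

end Regular

end Setup

end Cfsg.Agent.PSqPlus
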