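import Cfsg.Agent.PSqPlus.Simple

/-!
# Counting involutions
-/

set_option autoImplicit false

namespace Cfsg.Agent.PSqPlus

open MulAction

variable {G : Type*} [Group G] [Finite G] {Ω : Type*} [Finite Ω] [MulAction G Ω] {p : ℕ}

namespace Setup

variable {S : Setup G Ω p} {P : Subgroup G}

namespace Regular

variable (R : S.Regular P)

include R

theorem exists_pow_mod {y : G} (hy : y ∈ P) (hyZ : y ∉ R.Z) {x : G} (hx : x ∈ P) :
    ∃ i, i < p ∧ (y ^ i)⁻¹ * x ∈ R.Z := by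
  have : Fact p.Prime := ⟨S.prime⟩
  have hle : R.Z ≤ P := fun w hw => hw.1
  have : (R.Z.subgroupOf P).Normal := ⟨fun u hu v => by
    show (v : G) * u * (v : G)⁻¹ ∈ R.Z
    rw [R.comm v.2 u.2, mul_inv_cancel_right]; exact hu⟩
  have hidx : Nat.card (P ⧸ R.Z.subgroupOf P) = p := by
    rw [← Subgroup.index_eq_card]
    have h := (R.Z.subgroupOf P).card_mul_index
    rw [Nat.card_congr (Subgroup.subgroupOfEquivOfLe hle).toEquiv, R.card_Z, R.card, pow_two] at h
    exact Nat.eq_of_mul_eq_mul_left S.prime.pos h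
  set π := QuotientGroup.mk' (R.Z.subgroupOf P) with hπ
  have hne : π ⟨y, hy⟩ ≠ 1 := fun h => hyZ ((QuotientGroup.eq_one_iff (⟨y, hy⟩ : P)).1 h)
  obtain ⟨i, hi⟩ := mem_powers_of_prime_card (g' := π ⟨x, hx⟩) hidx hne
  refine ⟨i % p, Nat.mod_lt _ S.prime.pos, ?_⟩
  have hord : orderOf (π ⟨y, hy⟩) = p :=
    orderOf_eq_prime (orderOf_dvd_iff_pow_eq_one.1 ((orderOf_dvd_natCard _).trans hidx.dvd)) hne
  have hi' : π ⟨y, hy⟩ ^ (i % p) = π ⟨x, hx⟩ := by
    have h := pow_mod_orderOf (π ⟨y, hy⟩) i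
    simp only [hord] at h
    exact h.trans hi
  rw [← map_pow] at hi'
  exact (QuotientGroup.eq (a := (⟨y, hy⟩ : P) ^ (i % p)) (b := ⟨x, hx⟩)).1 hi'

variable (hP : ∀ h : G, h • S.a = S.a → ∀ x ∈ P, h * x * h⁻¹ ∈ P)
include hP

theorem smul_conj {d x : G} {b : Ω} (hd : d ∈ (two S.a b : Subgroup G)) :
    (d * x * d⁻¹) • b = d • x • b := by
  rw [mul_smul, mul_smul, inv_smul_eq_iff.2 hd.2.symm]

theorem mem_K_of_fix {u y : G} {b : Ω} (hb : b ≠ S.a) (hy : y ∈ P) (hyZ : y ∉ R.Z)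
    (hu : u ∈ (two S.a b : Subgroup G)) (h : y⁻¹ * (u * y * u⁻¹) ∈ R.Z) : u ∈ S.K := by
  refine ⟨hu.1, fun c hc => ?_⟩
  obtain ⟨x, hx, rfl⟩ := R.exists_mem hb hc
  obtain ⟨i, -, hi⟩ := R.exists_pow_mod hy hyZ hx
  obtain ⟨z, hz, hxz⟩ : ∃ z ∈ R.Z, x = y ^ i * z := ⟨_, hi, by rw [mul_inv_cancel_left]⟩
  rw [← R.smul_conj hP hu, hxz]
  have h1 : u * (y ^ i * z) * u⁻¹ = (y⁻¹ * (u * y * u⁻¹)) ^ i * y ^ i * (u * z * u⁻¹) := by
    have hcm : Commute (y⁻¹ * (u * y * u⁻¹)) y := R.comm h.1 hy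
    rw [← hcm.mul_pow, show y⁻¹ * (u * y * u⁻¹) * y = u * y * u⁻¹ by
      rw [hcm.eq, mul_inv_cancel_left], conj_pow]
    group
  have hN := R.zNormal u hu.1 z hz
  have hex : u * (y ^ i * z) * u⁻¹ =
      ((y⁻¹ * (u * y * u⁻¹)) ^ i * (u * z * u⁻¹) * z⁻¹) * (y ^ i * z) := by
    rw [h1]
    have hw : u * z * u⁻¹ * z⁻¹ ∈ P := P.mul_mem hN.1 (P.inv_mem hz.1)
    calc (y⁻¹ * (u * y * u⁻¹)) ^ i * y ^ i * (u * z * u⁻¹)
        = (y⁻¹ * (u * y * u⁻¹)) ^ i * (y ^ i * (u * z * u⁻¹ * z⁻¹)) * z := by group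
      _ = (y⁻¹ * (u * y * u⁻¹)) ^ i * (u * z * u⁻¹ * z⁻¹ * y ^ i) * z := by
          rw [R.comm (P.pow_mem hy i) hw]
      _ = _ := by group
  have hcb : (y ^ i * z) • b ≠ S.a := hxz ▸ hc
  rw [R.blk_iff hcb]
  exact ⟨_, R.Z.mul_mem (R.Z.mul_mem (R.Z.pow_mem h i) hN) (R.Z.inv_mem hz), by
    rw [smul_smul, ← hex]⟩

theorem two_comm' {b : Ω} (hb : b ≠ S.a) {u v : G} (hu : u ∈ (two S.a b : Subgroup G))
    (hv : v ∈ (two S.a b : Subgroup G)) : u * v = v * u := by
  obtain ⟨y, hy, hyZ⟩ : ∃ y ∈ P, y ∉ R.Z := by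
    by_contra hcon
    push Not at hcon
    have h1 : P = R.Z := le_antisymm hcon fun w hw => hw.1
    have h2 := R.card_Z
    rw [← h1, R.card] at h2
    have := S.prime.one_lt
    nlinarith
  have e : ∀ u v : G, u • S.a = S.a → v • S.a = S.a → ∀ i j : ℕ, (y ^ i)⁻¹ * (u * y * u⁻¹) ∈ R.Z →
      (y ^ j)⁻¹ * (v * y * v⁻¹) ∈ R.Z → (y ^ (i * j))⁻¹ * (u * v * y * (u * v)⁻¹) ∈ R.Z := by
    intro u v hua hva i j h1 h2
    have hc : Commute (y ^ i) ((y ^ i)⁻¹ * (u * y * u⁻¹)) := R.comm (P.pow_mem hy i) h1.1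
    have h3 : u * v * y * (u * v)⁻¹ =
        (u * y * u⁻¹) ^ j * (u * ((y ^ j)⁻¹ * (v * y * v⁻¹)) * u⁻¹) := by
      rw [conj_pow]; group
    have h4 : (u * y * u⁻¹) ^ j = y ^ (i * j) * ((y ^ i)⁻¹ * (u * y * u⁻¹)) ^ j := by
      rw [pow_mul, ← hc.mul_pow, mul_inv_cancel_left]
    rw [h3, h4, mul_assoc, inv_mul_cancel_left]
    exact R.Z.mul_mem (R.Z.pow_mem h1 j) (R.zNormal u hua _ h2)
  obtain ⟨i, -, hi⟩ := R.exists_pow_mod hy hyZ (hP u hu.1 y hy)
  obtain ⟨j, -, hj⟩ := R.exists_pow_mod hy hyZ (hP v hv.1 y hy)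
  have h1 := e u v hu.1 hv.1 i j hi hj
  have h2 := e v u hv.1 hu.1 j i hj hi
  rw [mul_comm j i] at h2
  set w : G := (v * u)⁻¹ * (u * v) with hw
  have hvu : v * u ∈ (two S.a b : Subgroup G) := (two S.a b : Subgroup G).mul_mem hv hu
  have huv : u * v ∈ (two S.a b : Subgroup G) := (two S.a b : Subgroup G).mul_mem hu hv
  have hwD : w ∈ (two S.a b : Subgroup G) :=
    (two S.a b : Subgroup G).mul_mem ((two S.a b : Subgroup G).inv_mem hvu) huv
  have hwy : y⁻¹ * (w * y * w⁻¹) ∈ R.Z := by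
    have h3 := R.Z.mul_mem (R.Z.inv_mem h2) h1
    have h4 := R.zNormal (v * u)⁻¹ (inv_smul_eq_iff.2 hvu.1.symm) _ h3
    have h5 : (v * u)⁻¹ * (((y ^ (i * j))⁻¹ * (v * u * y * (v * u)⁻¹))⁻¹ *
        ((y ^ (i * j))⁻¹ * (u * v * y * (u * v)⁻¹))) * (v * u)⁻¹⁻¹ = y⁻¹ * (w * y * w⁻¹) := by
      rw [hw]; group
    rwa [h5] at h4
  have hwK := R.mem_K_of_fix hP hb hy hyZ hwD hwy
  have hwZ := R.mem_Z_of_commute hwK fun z hz => by
    have h := R.conj_comm R.zNormal hu.1 hv.1 z hz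
    calc w * z = (v * u)⁻¹ * ((u * v) * z * (u * v)⁻¹) * (u * v) := by rw [hw]; group
      _ = (v * u)⁻¹ * ((v * u) * z * (v * u)⁻¹) * (u * v) := by rw [h]
      _ = z * w := by rw [hw]; group
  exact (inv_mul_eq_one.1 (R.eq_one hwZ.1 hb hwD.2)).symm

/-- The fixed points of an element of a two-point stabiliser. -/
theorem fixed_ncard {b : Ω} (hb : b ≠ S.a) {d : G} (hd : d ∈ (two S.a b : Subgroup G)) :
    {x : Ω | d • x = x}.ncard = Nat.card (P ⊓ Subgroup.centralizer {d} : Subgroup G) + 1 := by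
  have hset : {x : Ω | d • x = x} =
      insert S.a ((fun x => x • b) '' ((P ⊓ Subgroup.centralizer {d} : Subgroup G) : Set G)) := by
    ext c
    constructor
    · intro hc
      by_cases hca : c = S.a
      · exact Or.inl hca
      obtain ⟨x, hx, rfl⟩ := R.exists_mem hb hca
      refine Or.inr ⟨x, ⟨hx, Subgroup.mem_centralizer_iff.2 ?_⟩, rfl⟩
      intro u hu
      rw [Set.mem_singleton_iff] at hu
      rw [hu]
      refine mul_inv_eq_iff_eq_mul.1 ((R.reg b _ hb hca).unique ⟨hP d hd.1 x hx, ?_⟩ ⟨hx, rfl⟩)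
      rw [R.smul_conj hP hd]
      exact hc
    · rintro (rfl | ⟨x, hx, rfl⟩)
      · exact hd.1
      · show d • x • b = x • b
        rw [smul_smul, (Subgroup.mem_centralizer_iff.1 hx.2) d rfl, mul_smul, hd.2]
  rw [hset, Set.ncard_insert_of_notMem, Set.InjOn.ncard_image, ← Nat.card_coe_set_eq]
  · rfl
  · intro x hx x' hx' h
    exact (R.reg b _ hb (S.smul_ne (R.smul_a hx'.1) hb)).unique ⟨hx.1, h⟩ ⟨hx'.1, rfl⟩
  · rintro ⟨x, hx, h⟩
    exact S.smul_ne (R.smul_a hx.1) hb h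

theorem eq_one_of_centralizes {b : Ω} (hb : b ≠ S.a) {d : G} (hd : d ∈ (two S.a b : Subgroup G))
    (h : ∀ x ∈ P, d * x = x * d) : d = 1 :=
  S.eq_one_of_forall hd.1 fun c hc => by
    obtain ⟨x, hx, rfl⟩ := R.exists_mem hb hc
    rw [smul_smul, h x hx, mul_smul, hd.2]

theorem false_of_even (heven : ∀ g : G, g * g = 1 → 4 ∣ Nat.card Ω - {x : Ω | g • x = x}.ncard) :
    False := by
  classical
  have : Fact p.Prime := ⟨S.prime⟩
  have := Fintype.ofFinite G
  have := Fintype.ofFinite Ω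
  have hp3 := S.three_le
  obtain ⟨b, hb⟩ := S.exists_ne
  set D : Subgroup G := two S.a b with hD
  have hn4 : Nat.card Ω % 4 = 2 := by
    rw [S.card]
    obtain ⟨m, rfl⟩ := S.prime.odd_of_ne_two S.odd
    have : (2 * m + 1) ^ 2 + 1 = 4 * (m * m + m) + 2 := by ring
    omega
  -- every involution fixes two points
  have hfix2 : ∀ t : G, t * t = 1 → ∃ x y : Ω, x ≠ y ∧ t • x = x ∧ t • y = y := by
    intro t ht
    have h := heven t ht
    have hle : {x : Ω | t • x = x}.ncard ≤ Nat.card Ω := Set.ncard_le_card _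
    have : 1 < {x : Ω | t • x = x}.ncard := by omega
    obtain ⟨x, hx, y, hy, hxy⟩ := (Set.one_lt_ncard_iff_nontrivial.1 this)
    exact ⟨x, y, hxy, hx, hy⟩
  have hconj : ∀ t : G, ∀ x y : Ω, t * t = 1 → t • x = x → t • y = y → ∀ g : G, g • x = S.a →
      g • y = b → g * t * g⁻¹ ∈ D ∧ g * t * g⁻¹ * (g * t * g⁻¹) = 1 := by
    intro t x y ht hx hy g hgx hgy
    refine ⟨⟨?_, ?_⟩, by rw [show g * t * g⁻¹ * (g * t * g⁻¹) = g * (t * t) * g⁻¹ by group, ht]; group⟩
    · show (g * t * g⁻¹) • S.a = S.a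
      rw [mul_smul, mul_smul, inv_smul_eq_iff.2 hgx.symm, hx, hgx]
    · show (g * t * g⁻¹) • b = b
      rw [mul_smul, mul_smul, inv_smul_eq_iff.2 hgy.symm, hy, hgy]
  -- involutions of `D` invert `P`
  have htwo : ∀ d ∈ D, d * d = 1 → d ≠ 1 → {x : Ω | d • x = x}.ncard = 2 := by
    intro d hd hd2 hd1
    rw [R.fixed_ncard hP hb hd]
    obtain ⟨k, hk, he⟩ := (Nat.dvd_prime_pow S.prime).1
      (R.card ▸ Subgroup.card_dvd_of_le (inf_le_left : P ⊓ Subgroup.centralizer {d} ≤ P))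
    rw [he]
    interval_cases k
    · simp
    · exfalso
      rw [pow_one] at he
      have hfixz : (fix (Subgroup.zpowers d) : Set Ω) = {x : Ω | d • x = x} := by
        ext x
        exact ⟨fun h => h d (Subgroup.mem_zpowers d), fun h g hg =>
          (Subgroup.zpowers_le.2 (show d ∈ stabilizer G x from h)) hg⟩
      have hsz : {x : Ω | d • x = x}.ncard = p + 1 := by rw [R.fixed_ncard hP hb hd, he]
      have h3 : p = 3 := R.p_eq_three (R.lineClass R.zNormal) hb (W₀ := fix (Subgroup.zpowers d))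
        ⟨Subgroup.zpowers d, Subgroup.zpowers_le.2 hd, fun t ht x hx => by
          have hxD : x ∈ D := (Subgroup.zpowers_le.2 hd) hx
          rw [R.two_comm' hP hb ht hxD, mul_inv_cancel_right]
          exact hx, rfl, by rw [hfixz, hsz]⟩
      have h := heven d hd2
      rw [hsz, S.card, h3] at h
      norm_num at h
    · exfalso
      refine hd1 (R.eq_one_of_centralizes hP hb hd fun x hx => ?_)
      have := Subgroup.eq_of_le_of_card_ge (inf_le_left : P ⊓ Subgroup.centralizer {d} ≤ P)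
        (by rw [he, R.card])
      exact Subgroup.mem_centralizer_iff.1 ((this.symm ▸ hx : x ∈ P ⊓ Subgroup.centralizer {d})).2 d rfl
  have hinvert : ∀ d ∈ D, d * d = 1 → d ≠ 1 → ∀ x ∈ P, d * x * d⁻¹ = x⁻¹ := by
    intro d hd hd2 hd1 x hx
    have hd' : d⁻¹ = d := inv_eq_of_mul_eq_one_left hd2
    have hu : x * (d * x * d⁻¹) ∈ P := P.mul_mem hx (hP d hd.1 x hx)
    have hcent : x * (d * x * d⁻¹) ∈ P ⊓ Subgroup.centralizer {d} := by
      refine ⟨hu, Subgroup.mem_centralizer_iff.2 ?_⟩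
      intro u' hu'
      rw [Set.mem_singleton_iff] at hu'
      rw [hu']
      calc d * (x * (d * x * d⁻¹)) = d * x * d * x * d⁻¹ := by group
        _ = (d * x * d⁻¹) * x * (d⁻¹ * (d * d) ) := by
            rw [hd2]
            simp only [hd', mul_one, mul_assoc]
        _ = (x * (d * x * d⁻¹)) * d := by
            rw [R.comm (hP d hd.1 x hx) hx]
            group
    have hcard : Nat.card (P ⊓ Subgroup.centralizer {d} : Subgroup G) = 1 := by
      have := htwo d hd hd2 hd1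
      rw [R.fixed_ncard hP hb hd] at this
      omega
    rw [Subgroup.card_eq_one] at hcard
    rw [hcard, Subgroup.mem_bot, mul_eq_one_iff_eq_inv'] at hcent
    exact hcent
  have huniq : ∀ d ∈ D, ∀ d' ∈ D, d * d = 1 → d' * d' = 1 → d ≠ 1 → d' ≠ 1 → d = d' := by
    intro d hd d' hd' h1 h2 h3 h4
    refine inv_mul_eq_one.1 ?_
    refine R.eq_one_of_centralizes hP hb (D.mul_mem (D.inv_mem hd) hd') fun x hx => ?_
    have e1 := hinvert d hd h1 h3 x hx
    have e2 := hinvert d' hd' h2 h4 x hx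
    have : d' * x * d'⁻¹ = d * x * d⁻¹ := e2.trans e1.symm
    calc d⁻¹ * d' * x = d⁻¹ * (d' * x * d'⁻¹) * d' := by group
      _ = x * (d⁻¹ * d') := by rw [this]; group
  -- the set of involutions
  set I : Finset G := Finset.univ.filter (fun t => t * t = 1 ∧ t ≠ 1) with hI
  have hImem : ∀ t, t ∈ I ↔ t * t = 1 ∧ t ≠ 1 := fun t => by simp [hI]
  have hfixed : ∀ t ∈ I, (Finset.univ.filter (fun x : Ω => t • x = x)).card = 2 := by
    intro t ht
    rw [hImem] at ht
    obtain ⟨x, y, hxy, hx, hy⟩ := hfix2 t ht.1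
    obtain ⟨g, hgx, hgy⟩ := S.trans x y S.a b hxy hb.symm
    obtain ⟨h1, h2⟩ := hconj t x y ht.1 hx hy g hgx hgy
    have h := htwo _ h1 h2 fun h => ht.2 (conj_eq_one_iff.1 h)
    rw [← Set.toFinset_ofPred, ← Set.ncard_eq_toFinset_card', ← h]
    refine Set.ncard_congr (fun u _ => g • u) (fun u hu => ?_)
      (fun u v _ _ h => MulAction.injective g h) fun v hv => ⟨g⁻¹ • v, ?_, smul_inv_smul g v⟩
    · show (g * t * g⁻¹) • g • u = g • u
      rw [mul_smul, mul_smul, inv_smul_smul, (hu : t • u = u)]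
    · show t • g⁻¹ • v = g⁻¹ • v
      have hv' : (g * t * g⁻¹) • v = v := hv
      rw [mul_smul, mul_smul, smul_eq_iff_eq_inv_smul] at hv'
      exact hv'
  have hIne : I.Nonempty := by
    obtain ⟨t, ht⟩ := exists_prime_orderOf_dvd_card' (G := G) 2 (by
      have h1 : Nat.card (orbit G S.a) * Nat.card (stabilizer G S.a) = Nat.card G := by
        rw [← Nat.card_prod, Nat.card_congr (orbitProdStabilizerEquivGroup G S.a)]
      have h2 : Nat.card (orbit G S.a) = Nat.card Ω := by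
        rw [Nat.card_coe_set_eq, ← Set.ncard_univ]
        congr 1
        refine Set.eq_univ_of_forall fun x => ?_
        by_cases hx : x = S.a
        · exact hx ▸ mem_orbit_self x
        · obtain ⟨g, hg, -⟩ := S.trans S.a x x S.a (Ne.symm hx) hx
          exact ⟨g, hg⟩
      rw [← h1, h2]
      exact dvd_mul_of_dvd_left (Nat.dvd_of_mod_eq_zero (by omega)) _)
    refine ⟨t, (hImem t).2 ⟨?_, fun h => by simp [h] at ht⟩⟩
    rw [← pow_two, ← ht, pow_orderOf_eq_one]
  obtain ⟨zi, hziD, hzi2, hzi1⟩ : ∃ d ∈ D, d * d = 1 ∧ d ≠ 1 := by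
    obtain ⟨t, ht⟩ := hIne
    rw [hImem] at ht
    obtain ⟨x, y, hxy, hx, hy⟩ := hfix2 t ht.1
    obtain ⟨g, hgx, hgy⟩ := S.trans x y S.a b hxy hb.symm
    obtain ⟨h1, h2⟩ := hconj t x y ht.1 hx hy g hgx hgy
    exact ⟨_, h1, h2, fun h => ht.2 (conj_eq_one_iff.1 h)⟩
  -- counting
  set U : Finset (Ω × Ω) := (Finset.univ : Finset Ω).offDiag with hU
  have hc1 : U.card = 2 * I.card := by
    set T : Finset ((Ω × Ω) × G) := (U ×ˢ I).filter (fun q => q.2 • q.1.1 = q.1.1 ∧ q.2 • q.1.2 = q.1.2)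
      with hT
    have e1 : T.card = U.card := by
      refine Finset.card_bij (fun q _ => q.1) (fun q hq => by simp [hT] at hq; exact hq.1.1)
        (fun q hq r hr h => ?_) fun u hu => ?_
      · simp only [hT, Finset.mem_filter, Finset.mem_product, hImem, hU, Finset.mem_offDiag] at hq hr
        obtain ⟨g, hgx, hgy⟩ := S.trans q.1.1 q.1.2 S.a b hq.1.1.2.2 hb.symm
        obtain ⟨a1, a2⟩ := hconj q.2 _ _ hq.1.2.1 hq.2.1 hq.2.2 g hgx hgy
        obtain ⟨b1, b2⟩ := hconj r.2 _ _ hr.1.2.1 hr.2.1 hr.2.2 g (h ▸ hgx) (h ▸ hgy)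
        refine Prod.ext h ?_
        have := huniq _ a1 _ b1 a2 b2 (fun h => hq.1.2.2 (conj_eq_one_iff.1 h))
          (fun h => hr.1.2.2 (conj_eq_one_iff.1 h))
        exact mul_left_cancel (mul_right_cancel this)
      · simp only [hU, Finset.mem_offDiag] at hu
        obtain ⟨g, hgx, hgy⟩ := S.trans S.a b u.1 u.2 hb.symm hu.2.2
        refine ⟨(u, g * zi * g⁻¹), ?_, rfl⟩
        simp only [hT, Finset.mem_filter, Finset.mem_product, hImem, hU, Finset.mem_offDiag]
        refine ⟨⟨hu, ?_, fun h => hzi1 (conj_eq_one_iff.1 h)⟩, ?_, ?_⟩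
        · rw [show g * zi * g⁻¹ * (g * zi * g⁻¹) = g * (zi * zi) * g⁻¹ by group, hzi2]; group
        · rw [mul_smul, mul_smul, inv_smul_eq_iff.2 hgx.symm, hziD.1, hgx]
        · rw [mul_smul, mul_smul, inv_smul_eq_iff.2 hgy.symm, hziD.2, hgy]
    rw [← e1, Finset.card_eq_sum_card_fiberwise (f := fun q => q.2) (t := I)
      (fun q hq => by simp [hT] at hq; exact hq.1.2), Finset.sum_const_nat (m := 2), mul_comm]
    intro t ht
    have h2 := hfixed t ht
    have : ((Finset.univ.filter (fun x : Ω => t • x = x)).offDiag).card = 2 := by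
      rw [Finset.offDiag_card, h2]
    refine Eq.trans ?_ this
    refine Finset.card_bij (fun q _ => q.1) (fun q hq => ?_) (fun q hq r hr h => ?_) fun u hu => ?_
    · simp only [hT, hU, Finset.mem_filter, Finset.mem_product, Finset.mem_offDiag] at hq
      simp only [Finset.mem_offDiag, Finset.mem_filter, Finset.mem_univ, true_and]
      exact ⟨hq.2 ▸ hq.1.2.1, hq.2 ▸ hq.1.2.2, hq.1.1.1.2.2⟩
    · simp only [Finset.mem_filter] at hq hr
      exact Prod.ext h (hq.2.trans hr.2.symm)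
    · simp only [Finset.mem_offDiag, Finset.mem_filter, Finset.mem_univ, true_and] at hu
      exact ⟨(u, t), by simp [hT, hU, hu.1, hu.2.1, hu.2.2, ht], rfl⟩
  set J : Finset G := I.filter (fun t => t • S.a = b) with hJ
  have hswap : ∀ t ∈ I, ∀ x y : Ω, t • x = y → t • y = x := by
    intro t ht x y h
    rw [← h, smul_smul, ((hImem t).1 ht).1, one_smul]
  have hc2 : I.card * (Nat.card Ω - 2) = U.card * J.card := by
    set T : Finset ((Ω × Ω) × G) := (U ×ˢ I).filter (fun q => q.2 • q.1.1 = q.1.2) with hT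
    have e1 : T.card = U.card * J.card := by
      rw [Finset.card_eq_sum_card_fiberwise (f := fun q => q.1) (t := U)
        (fun q hq => by simp [hT] at hq; exact hq.1.1), Finset.sum_const_nat (m := J.card)]
      intro u hu
      have hu' : u.1 ≠ u.2 := by simp [hU] at hu; exact hu
      obtain ⟨g, hgx, hgy⟩ := S.trans u.1 u.2 S.a b hu' hb.symm
      refine Finset.card_bij (fun q _ => g * q.2 * g⁻¹) (fun q hq => ?_) (fun q hq r hr h => ?_)
        fun t ht => ?_
      · simp only [hT, Finset.mem_filter, Finset.mem_product, hImem] at hq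
        simp only [hJ, Finset.mem_filter, hImem]
        obtain ⟨⟨⟨-, h2, h3⟩, h4⟩, h5⟩ := hq
        refine ⟨⟨?_, fun h => h3 (conj_eq_one_iff.1 h)⟩, ?_⟩
        · rw [show g * q.2 * g⁻¹ * (g * q.2 * g⁻¹) = g * (q.2 * q.2) * g⁻¹ by group, h2]; group
        · rw [mul_smul, mul_smul, inv_smul_eq_iff.2 hgx.symm, ← h5, h4, h5, hgy]
      · simp only [Finset.mem_filter] at hq hr
        exact Prod.ext (hq.2.trans hr.2.symm) (mul_left_cancel (mul_right_cancel h))
      · simp only [hJ, Finset.mem_filter, hImem] at ht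
        refine ⟨(u, g⁻¹ * t * g), ?_, by group⟩
        simp only [hT, Finset.mem_filter, Finset.mem_product, hImem]
        refine ⟨⟨⟨hu, ?_, fun h => ht.1.2 ?_⟩, ?_⟩, trivial⟩
        · rw [show g⁻¹ * t * g * (g⁻¹ * t * g) = g⁻¹ * (t * t) * g by group, ht.1.1]; group
        · rw [show t = g * (g⁻¹ * t * g) * g⁻¹ by group, h]; group
        · rw [mul_smul, mul_smul, hgx, ht.2, inv_smul_eq_iff, hgy]
    refine Eq.trans ?_ e1
    rw [Finset.card_eq_sum_card_fiberwise (s := T) (f := fun q => q.2) (t := I)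
      (fun q hq => by simp [hT] at hq; exact hq.1.2), Finset.sum_const_nat (m := Nat.card Ω - 2)]
    intro t ht
    have h2 := hfixed t ht
    have : (Finset.univ.filter (fun x : Ω => ¬ t • x = x)).card = Nat.card Ω - 2 := by
      rw [← h2, Nat.card_eq_fintype_card, Finset.filter_not,
        Finset.card_sdiff_of_subset (Finset.subset_univ _), Finset.card_univ]
    refine Eq.trans ?_ this
    refine Finset.card_bij (fun q _ => q.1.1) (fun q hq => ?_) (fun q hq r hr h => ?_) fun x hx => ?_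
    · simp only [hT, hU, Finset.mem_filter, Finset.mem_product, Finset.mem_offDiag] at hq
      simp only [Finset.mem_filter, Finset.mem_univ, true_and]
      intro h
      exact hq.1.1.1.2.2 (by rw [← hq.1.2, hq.2, h])
    · simp only [hT, Finset.mem_filter, Finset.mem_product] at hq hr
      refine Prod.ext (Prod.ext h ?_) (hq.2.trans hr.2.symm)
      rw [← hq.1.2, ← hr.1.2, hq.2, hr.2, h]
    · simp only [Finset.mem_filter, Finset.mem_univ, true_and] at hx
      exact ⟨((x, t • x), t), by simp [hT, hU, ht, Ne.symm hx], rfl⟩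
  have hJle : J.card ≤ Nat.card D := by
    rcases J.eq_empty_or_nonempty with h | ⟨t₀, ht₀⟩
    · rw [h]; simp
    rw [← SetLike.coe_sort_coe, Nat.card_eq_fintype_card, ← Set.toFinset_card]
    refine Finset.card_le_card_of_injOn (fun t => t₀ * t) (fun t ht => ?_) fun t _ t' _ h => mul_left_cancel h
    simp only [hJ, Finset.coe_filter, Set.mem_ofPred_eq] at ht
    simp only [hJ, Finset.mem_filter] at ht₀
    simp only [Set.coe_toFinset, SetLike.mem_coe]
    exact ⟨by show (t₀ * t) • S.a = S.a; rw [mul_smul, ht.2, hswap t₀ ht₀.1 _ _ ht₀.2],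
      by show (t₀ * t) • b = b; rw [mul_smul, hswap t ht.1 _ _ ht.2, ht₀.2]⟩
  have hJval : 2 * J.card + 2 = Nat.card Ω := by
    have hpos := hIne.card_pos
    rw [hc1, mul_comm 2 I.card, mul_assoc] at hc2
    have := Nat.eq_of_mul_eq_mul_left hpos hc2
    omega
  -- bound on `D`
  obtain ⟨z₀, hz₀, hz1⟩ := R.exists_ne_one
  obtain ⟨y, hy, hyZ⟩ : ∃ y ∈ P, y ∉ R.Z := by
    by_contra hcon
    push Not at hcon
    have h1 : P = R.Z := le_antisymm hcon fun w hw => hw.1
    have h2 := R.card_Z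
    rw [← h1, R.card] at h2
    nlinarith [S.prime.one_lt]
  set D₁ : Finset G := Finset.univ.filter (fun d => d ∈ D ∧ d * z₀ = z₀ * d) with hD₁
  have hD1 : Nat.card D ≤ (p - 1) * D₁.card := by
    set Df : Finset G := Finset.univ.filter (fun d => d ∈ D) with hDf
    have hcard : Df.card = Nat.card D := by
      rw [Nat.card_eq_fintype_card, Fintype.card_subtype]
    set im : Finset G := Finset.univ.filter (fun z => z ∈ R.Z ∧ z ≠ 1) with him
    have himc : im.card = p - 1 := by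
      rw [show im = (Finset.univ.filter (fun z => z ∈ R.Z)).erase 1 by ext; simp [him, and_comm],
        Finset.card_erase_of_mem (by simp), ← Fintype.card_subtype, ← Nat.card_eq_fintype_card]
      exact congrArg (· - 1) R.card_Z
    rw [← hcard, mul_comm, ← himc]
    refine Finset.card_le_mul_card_image_of_maps_to (f := fun d => d * z₀ * d⁻¹) (fun d hd => ?_) D₁.card
      fun z _ => ?_
    · simp only [hDf, Finset.mem_filter, Finset.mem_univ, true_and] at hd
      simp only [him, Finset.mem_filter, Finset.mem_univ, true_and]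
      exact ⟨R.zNormal d hd.1 z₀ hz₀, fun h => hz1 (conj_eq_one_iff.1 h)⟩
    · rcases (Df.filter fun d => d * z₀ * d⁻¹ = z).eq_empty_or_nonempty with h | ⟨d₀, hd₀⟩
      · rw [h]; simp
      refine Finset.card_le_card_of_injOn (fun d => d₀⁻¹ * d) (fun d hd => ?_) fun d _ d' _ h => mul_left_cancel h
      simp only [hDf, Finset.coe_filter, Finset.mem_filter, Finset.mem_univ, true_and,
        Set.mem_ofPred_eq] at hd hd₀
      simp only [hD₁, Finset.coe_filter, Finset.mem_univ, true_and, Set.mem_ofPred_eq]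
      refine ⟨D.mul_mem (D.inv_mem hd₀.1) hd.1, ?_⟩
      calc d₀⁻¹ * d * z₀ = d₀⁻¹ * (d * z₀ * d⁻¹) * d := by group
        _ = d₀⁻¹ * (d₀ * z₀ * d₀⁻¹) * d := by rw [hd.2, hd₀.2]
        _ = z₀ * (d₀⁻¹ * d) := by group
  have hD1mem : ∀ d ∈ D₁, d ∈ D ∧ ∀ z ∈ R.Z, d * z = z * d := fun d hd => by
    simp only [hD₁, Finset.mem_filter, Finset.mem_univ, true_and] at hd
    exact ⟨hd.1, R.commute_of_commute hz₀ hz1 hd.2⟩
  have hzi_not : ∀ d ∈ D₁, d * d = 1 → d = 1 := by
    intro d hd hd2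
    by_contra h1
    obtain ⟨hdD, hdc⟩ := hD1mem d hd
    have h := hinvert d hdD hd2 h1 z₀ hz₀.1
    rw [hdc z₀ hz₀, mul_inv_cancel_right, eq_inv_iff_mul_eq_one, ← pow_two] at h
    have h2 : orderOf z₀ ∣ 2 := orderOf_dvd_of_pow_eq_one h
    have hp : orderOf z₀ = p := orderOf_eq_prime (R.pow_prime_Z hz₀) hz1
    have := Nat.le_of_dvd (by norm_num) (hp ▸ h2)
    omega
  have hD2 : 2 * D₁.card ≤ p - 1 := by
    have hex : ∀ e ∈ D, ∃ i, i < p ∧ (y ^ i)⁻¹ * (e * y * e⁻¹) ∈ R.Z := fun e he =>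
      R.exists_pow_mod hy hyZ (hP e he.1 y hy)
    choose! ix hix using hex
    have hix0 : ∀ e ∈ D, ix e ≠ 0 := by
      intro e he h0
      have h := (hix e he).2
      rw [h0, pow_zero, inv_one, one_mul] at h
      have h' := R.zNormal e⁻¹ (inv_smul_eq_iff.2 he.1.symm) _ h
      rw [show e⁻¹ * (e * y * e⁻¹) * e⁻¹⁻¹ = y by group] at h'
      exact hyZ h'
    set el : G × Bool → G := fun q => if q.2 then q.1 * zi else q.1 with hel
    have helD : ∀ q ∈ D₁ ×ˢ (Finset.univ : Finset Bool), el q ∈ D := by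
      rintro ⟨d, ε⟩ hq
      simp only [Finset.mem_product] at hq
      have := (hD1mem d hq.1).1
      cases ε
      · simpa [hel] using this
      · simpa [hel] using D.mul_mem this hziD
    have hcardt : ((Finset.range p).erase 0).card = p - 1 := by
      rw [Finset.card_erase_of_mem (Finset.mem_range.2 S.prime.pos), Finset.card_range]
    rw [← hcardt, show 2 * D₁.card = (D₁ ×ˢ (Finset.univ : Finset Bool)).card by
      rw [Finset.card_product, Finset.card_univ, Fintype.card_bool, mul_comm]]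
    refine Finset.card_le_card_of_injOn (fun q => ix (el q)) (fun q hq => ?_) ?_
    · simp only [Finset.coe_erase, Finset.coe_range, Set.mem_sdiff, Set.mem_Iio, Set.mem_singleton_iff]
      exact ⟨(hix _ (helD q hq)).1, hix0 _ (helD q hq)⟩
    intro q hq r hr h
    have hqD := helD q hq
    have hrD := helD r hr
    set u : G := (el r)⁻¹ * el q with hu
    have huD : u ∈ D := D.mul_mem (D.inv_mem hrD) hqD
    have h' : ix (el q) = ix (el r) := h
    have h1 := (hix _ hqD).2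
    have h2 := (hix _ hrD).2
    rw [h'] at h1
    have h3 := R.zNormal (el r)⁻¹ (inv_smul_eq_iff.2 hrD.1.symm) _ (R.Z.mul_mem (R.Z.inv_mem h2) h1)
    rw [show (el r)⁻¹ * (((y ^ ix (el r))⁻¹ * (el r * y * (el r)⁻¹))⁻¹ *
        ((y ^ ix (el r))⁻¹ * (el q * y * (el q)⁻¹))) * (el r)⁻¹⁻¹ = y⁻¹ * (u * y * u⁻¹) by
      rw [hu]; group] at h3
    have huK := R.mem_K_of_fix hP hb hy hyZ huD h3
    have hone : ∀ w ∈ D, w ∈ S.K → (∀ z ∈ R.Z, w * z = z * w) → w = 1 := fun w hw hwK hwc =>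
      R.eq_one (R.mem_Z_of_commute hwK hwc).1 hb hw.2
    obtain ⟨d, ε⟩ := q
    obtain ⟨d', ε'⟩ := r
    simp only [Finset.coe_product, Set.mem_prod, Finset.mem_coe] at hq hr
    obtain ⟨hdD, hdc⟩ := hD1mem d hq.1
    obtain ⟨hdD', hdc'⟩ := hD1mem d' hr.1
    have hd1 : d'⁻¹ * d ∈ D₁ := by
      simp only [hD₁, Finset.mem_filter, Finset.mem_univ, true_and]
      refine ⟨D.mul_mem (D.inv_mem hdD') hdD, ?_⟩
      have := hdc' z₀ hz₀
      rw [mul_assoc, hdc z₀ hz₀, ← mul_assoc, ← mul_assoc]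
      congr 1
      rw [inv_mul_eq_iff_eq_mul, ← mul_assoc, this, mul_inv_cancel_right]
    have hcase : u = d'⁻¹ * d ∧ ε = ε' ∨ u = d'⁻¹ * d * zi ∧ ε ≠ ε' := by
      have hz' : zi⁻¹ = zi := inv_eq_of_mul_eq_one_left hzi2
      have hc : ∀ w ∈ D, zi * w = w * zi := fun w hw => R.two_comm' hP hb hziD hw
      cases ε <;> cases ε'
      · exact Or.inl ⟨by simp [hu, hel], rfl⟩
      · refine Or.inr ⟨?_, by simp⟩
        simp only [hu, hel, if_true, Bool.false_eq_true, if_false, mul_inv_rev, hz']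
        rw [mul_assoc, hc _ (D.mul_mem (D.inv_mem hdD') hdD)]
      · exact Or.inr ⟨by simp [hu, hel, mul_assoc], by simp⟩
      · refine Or.inl ⟨?_, rfl⟩
        simp only [hu, hel, if_true, mul_inv_rev]
        rw [hz', mul_assoc, ← mul_assoc d'⁻¹, ← mul_assoc, hc _ (D.mul_mem (D.inv_mem hdD') hdD),
          mul_assoc, hzi2, mul_one]
    rcases hcase with ⟨hue, rfl⟩ | ⟨hue, -⟩
    · have := hone u huD huK (hue ▸ (hD1mem _ hd1).2)
      rw [hue, inv_mul_eq_one] at this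
      rw [this]
    · exfalso
      obtain ⟨he1, hec⟩ := hD1mem _ hd1
      have hsq : u * u = (d'⁻¹ * d) * (d'⁻¹ * d) := by
        rw [hue, show d'⁻¹ * d * zi * (d'⁻¹ * d * zi) = d'⁻¹ * d * (zi * (d'⁻¹ * d)) * zi by group,
          R.two_comm' hP hb hziD he1, show d'⁻¹ * d * (d'⁻¹ * d * zi) * zi = d'⁻¹ * d * (d'⁻¹ * d) * (zi * zi) by group,
          hzi2, mul_one]
      have h1u := hone _ (D.mul_mem huD huD) (S.K.mul_mem huK huK) (by
        rw [hsq]
        intro z hz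
        rw [mul_assoc, hec z hz, ← mul_assoc, hec z hz, mul_assoc])
      have he : d'⁻¹ * d = 1 := hzi_not _ hd1 (hsq ▸ h1u)
      rw [he, one_mul] at hue
      rw [hue] at h3
      rw [hinvert zi hziD hzi2 hzi1 y hy] at h3
      have hyy : y ^ 2 ∈ R.Z := by
        have := R.Z.inv_mem h3
        rwa [mul_inv_rev, inv_inv, ← pow_two] at this
      refine hyZ ?_
      have hco : (orderOf y).Coprime 2 := Nat.Coprime.coprime_dvd_left
        (R.card ▸ Subgroup.orderOf_dvd_natCard P hy)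
        ((S.prime.coprime_iff_not_dvd.2 fun hd => by
          have := Nat.le_of_dvd (by norm_num) hd; omega).pow_left 2)
      obtain ⟨m, hm⟩ := exists_pow_eq_self_of_coprime hco.symm
      rw [← hm]
      exact R.Z.pow_mem hyy m
  have key : 2 * Nat.card D ≤ (p - 1) * (p - 1) := by
    calc 2 * Nat.card D ≤ 2 * ((p - 1) * D₁.card) := Nat.mul_le_mul_left 2 hD1
      _ = (p - 1) * (2 * D₁.card) := by ring
      _ ≤ (p - 1) * (p - 1) := Nat.mul_le_mul_left _ hD2
  rw [S.card] at hJval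
  obtain ⟨q, rfl⟩ : ∃ q, p = q + 1 := ⟨p - 1, by omega⟩
  simp only [Nat.add_sub_cancel] at key
  nlinarith

end Regular

end Setup

end Cfsg.Agent.PSqPlus
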