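import Mathlib

/-!
# Powers of a zero-one vector in the group algebra of a group of prime order

If the `p`-th convolution power of a zero-one function on `ZMod p` is constant outside one point,
so is the function.
-/

set_option autoImplicit false

namespace Cfsg.Agent.PSqPlus

open Finset Polynomial

variable {p : ℕ} [hp : Fact p.Prime]

local notation "L" => CyclotomicField p ℚ

local instance : NeZero p := ⟨hp.out.ne_zero⟩

local instance : NeZero ((p : ℕ) : ℚ) := ⟨Nat.cast_ne_zero.2 hp.out.ne_zero⟩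

local instance : IsCyclotomicExtension {p} ℚ L := CyclotomicField.isCyclotomicExtension p ℚ

/-- A primitive root of order `p`. -/
noncomputable def zt : L := IsCyclotomicExtension.zeta p ℚ L

theorem zt_spec : IsPrimitiveRoot (zt (p := p)) p := IsCyclotomicExtension.zeta_spec p ℚ L

/-- The character `k ↦ ζ ^ k`. -/
noncomputable def chr (k : ZMod p) : L := zt ^ k.val

theorem chr_add (j k : ZMod p) : chr (j + k) = chr j * chr k := by
  have h : orderOf (zt (p := p)) = p := zt_spec.eq_orderOf.symm
  unfold chr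
  rw [← pow_add, ZMod.val_add]
  conv_rhs => rw [← pow_mod_orderOf, h]

theorem chr_zero : chr (0 : ZMod p) = 1 := by simp [chr]

theorem sum_range_eq {M : Type*} [AddCommMonoid M] (F : ℕ → M) :
    ∑ k : ZMod p, F k.val = ∑ i ∈ range p, F i := by
  refine Finset.sum_bij (fun k _ => k.val) (fun k _ => Finset.mem_range.2 k.val_lt)
    (fun a _ b _ h => ZMod.val_injective p h)
    (fun i hi => ⟨(i : ZMod p), Finset.mem_univ _, ZMod.val_cast_of_lt (Finset.mem_range.1 hi)⟩)
    (fun _ _ => rfl)

theorem sum_chr : ∑ k : ZMod p, chr k = 0 := by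
  show ∑ k : ZMod p, (fun i => (zt (p := p)) ^ i) k.val = 0
  rw [sum_range_eq, zt_spec.geom_sum_eq_zero hp.out.one_lt]

/-- Evaluation of a function at `ζ`. -/
noncomputable def ev (f : ZMod p → ℚ) : L := ∑ k : ZMod p, algebraMap ℚ L (f k) * chr k

theorem ev_conv (F f : ZMod p → ℚ) :
    ev (fun k => ∑ j, F j * f (k - j)) = ev F * ev f := by
  unfold ev
  rw [Finset.sum_mul_sum]
  simp only [map_sum, map_mul, Finset.sum_mul]
  rw [Finset.sum_comm]
  refine Finset.sum_congr rfl fun j _ => ?_
  refine Fintype.sum_equiv (Equiv.subRight j) _ _ fun k => ?_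
  rw [Equiv.subRight_apply]
  conv_lhs => rw [← add_sub_cancel j k, chr_add]
  rw [add_sub_cancel]
  ring

theorem ev_of_eq_off (F : ZMod p → ℚ) (t : ZMod p) (c : ℚ) (h : ∀ k, k ≠ t → F k = c) :
    ev F = algebraMap ℚ L (F t - c) * chr t := by
  have h1 : ∀ k, algebraMap ℚ L (F k) * chr k =
      algebraMap ℚ L c * chr k + (if k = t then algebraMap ℚ L (F t - c) * chr t else 0) := by
    intro k
    split_ifs with hk
    · rw [hk, map_sub]; ring
    · rw [h k hk, add_zero]
  unfold ev
  rw [Finset.sum_congr rfl fun k _ => h1 k, Finset.sum_add_distrib, ← Finset.mul_sum, sum_chr,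
    mul_zero, zero_add, Finset.sum_ite_eq' Finset.univ t, if_pos (Finset.mem_univ t)]

theorem eq_const_of_ev_eq_zero (g : ZMod p → ℚ) (h : ev g = 0) (j k : ZMod p) : g j = g k := by
  have key : ∀ k, g k = g (-1) := by
    set c := g (-1) with hc
    set Q : ℚ[X] := ∑ k : ZMod p, C (g k - c) * X ^ k.val with hQ
    have haev : aeval (zt (p := p)) Q = 0 := by
      rw [hQ, map_sum]
      simp only [map_mul, aeval_C, aeval_X, map_pow, map_sub, sub_mul, Finset.sum_sub_distrib,
        ← Finset.mul_sum]
      show ev g - algebraMap ℚ L c * ∑ k : ZMod p, chr k = 0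
      rw [h, sum_chr, mul_zero, sub_zero]
    have hdvd := minpoly.dvd ℚ (zt (p := p)) haev
    rw [← cyclotomic_eq_minpoly_rat zt_spec hp.out.pos] at hdvd
    have hdeg : Q.degree < (cyclotomic p ℚ).degree := by
      rw [degree_cyclotomic, Nat.totient_prime hp.out]
      refine lt_of_le_of_lt (degree_sum_le _ _) ((Finset.sup_lt_iff (WithBot.bot_lt_coe _)).2 ?_)
      intro k _
      by_cases hk : k = -1
      · rw [hk, sub_self, C_0, zero_mul, degree_zero]
        exact WithBot.bot_lt_coe _
      · refine lt_of_le_of_lt (degree_C_mul_X_pow_le _ _) ?_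
        refine Nat.cast_lt.2 ?_
        have hlt := k.val_lt
        rcases Nat.lt_or_ge k.val (p - 1) with h' | h'
        · exact h'
        · refine absurd (ZMod.val_injective p ?_) hk
          obtain ⟨n, rfl⟩ : ∃ n, p = n + 1 := ⟨p - 1, by have := hp.out.pos; omega⟩
          rw [ZMod.val_neg_one]
          omega
    have hQ0 := eq_zero_of_dvd_of_degree_lt hdvd hdeg
    intro k
    have hk : Q.coeff k.val = g k - c := by
      rw [hQ, finset_sum_coeff, Finset.sum_eq_single k]
      · rw [coeff_C_mul_X_pow, if_pos rfl]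
      · intro j _ hj
        rw [coeff_C_mul_X_pow, if_neg fun e => hj (ZMod.val_injective p e).symm]
      · simp
    rw [hQ0, coeff_zero] at hk
    linarith
  rw [key j, key k]

/-- The main lemma. -/
theorem eq_off_of_power (hp2 : p ≠ 2) (f : ZMod p → ℚ) (hnc : ∃ i j, f i ≠ f j)
    (F : ℕ → ZMod p → ℚ) (h0 : ∀ k, F 0 k = if k = 0 then 1 else 0)
    (hsucc : ∀ i k, F (i + 1) k = ∑ j, F i j * f (k - j))
    (t : ZMod p) (c : ℚ) (hoff : ∀ k, k ≠ t → F p k = c) :
    ∃ u, ∀ i j, i ≠ u → j ≠ u → f i = f j := by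
  have ha : ∀ i, ev (F i) = ev f ^ i := by
    intro i
    induction i with
    | zero =>
      rw [pow_zero, ev_of_eq_off (F 0) 0 0 (fun k hk => by rw [h0, if_neg hk]), h0, if_pos rfl,
        sub_zero, map_one, chr_zero, one_mul]
    | succ i ih =>
      rw [pow_succ, ← ih, ← ev_conv]
      exact congrArg ev (funext fun k => hsucc i k)
  have hpow := (ha p).symm.trans (ev_of_eq_off (F p) t c hoff)
  set a := ev f with hadef
  set α := F p t - c with hα
  have ha0 : a ≠ 0 := fun h => by
    obtain ⟨i, j, hij⟩ := hnc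
    exact hij (eq_const_of_ev_eq_zero f h i j)
  have hα0 : α ≠ 0 := fun h => by
    rw [h, map_zero, zero_mul] at hpow
    exact pow_ne_zero _ ha0 hpow
  have hodd : Odd p := hp.out.odd_of_ne_two hp2
  have hN : Algebra.norm ℚ a ^ p = α ^ (p - 1) := by
    have := congrArg (Algebra.norm ℚ) hpow
    rw [map_pow, map_mul, Algebra.norm_algebraMap, chr, map_pow,
      zt_spec.norm_eq_one hp2 (cyclotomic.irreducible_rat hp.out.pos), one_pow, mul_one,
      IsCyclotomicExtension.finrank (n := p) L (cyclotomic.irreducible_rat hp.out.pos),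
      Nat.totient_prime hp.out] at this
    exact this
  set r := α / Algebra.norm ℚ a with hr
  have hr' : r ^ p = α := by
    rw [hr, div_pow, hN, div_eq_iff (pow_ne_zero _ hα0), ← pow_succ',
      show p - 1 + 1 = p from Nat.succ_pred_eq_of_pos hp.out.pos]
  have hr0 : r ≠ 0 := fun h => hα0 (by rw [← hr', h, zero_pow hp.out.ne_zero])
  set u := a / algebraMap ℚ L r with hu
  have hup : u ^ p = chr t := by
    have h' : algebraMap ℚ L α ≠ 0 := by simpa using hα0
    rw [hu, div_pow, ← map_pow, hr', hpow, mul_div_cancel_left₀ _ h']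
  have hfin : IsOfFinOrder u := by
    refine isOfFinOrder_iff_pow_eq_one.2 ⟨p * p, Nat.mul_pos hp.out.pos hp.out.pos, ?_⟩
    rw [pow_mul, hup, chr, ← pow_mul, mul_comm, pow_mul, zt_spec.pow_eq_one, one_pow]
  obtain ⟨e, he, hcases⟩ := zt_spec.exists_pow_or_neg_mul_pow_of_isOfFinOrder hodd hfin
  have hzt : (zt (p := p)) ^ e = chr (e : ZMod p) := by rw [chr, ZMod.val_cast_of_lt he]
  obtain ⟨s, hs⟩ : ∃ s : ℚ, a = algebraMap ℚ L s * chr (e : ZMod p) := by
    have hau : a = algebraMap ℚ L r * u := by
      rw [hu, mul_div_cancel₀]; simpa using hr0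
    rcases hcases with h | h
    · exact ⟨r, by rw [hau, h, hzt]⟩
    · exact ⟨-r, by rw [hau, h, hzt, map_neg, neg_mul, mul_neg]⟩
  set g : ZMod p → ℚ := fun k => f k - if k = (e : ZMod p) then s else 0 with hg
  have hg0 : ev g = 0 := by
    have h1 := ev_of_eq_off (fun k => if k = (e : ZMod p) then s else 0) (e : ZMod p) 0
      (fun k hk => if_neg hk)
    simp only [if_pos, sub_zero] at h1
    have h2 : ev g = a - ev (fun k => if k = (e : ZMod p) then s else 0) := by
      rw [hadef]; unfold ev
      simp only [hg, map_sub, sub_mul, Finset.sum_sub_distrib]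
    rw [h2, h1, hs, sub_self]
  refine ⟨e, fun i j hi hj => ?_⟩
  have := eq_const_of_ev_eq_zero g hg0 i j
  simpa [hg, hi, hj] using this

end Cfsg.Agent.PSqPlus
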