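import Mathlib

/-!
# Counting lines of size `p + 1` on `p² + 1` points

A conjugation-invariant way of attaching sets of `p + 1` points to unordered pairs of a doubly
transitive group, closed under moving the second point, forces `p + 1 ∣ 2 m`.
-/

set_option autoImplicit false

namespace Cfsg.Agent.PSqPlus

open MulAction

variable {G : Type*} [Group G] {Ω : Type*} [MulAction G Ω]

/-- The common fixed points of a subgroup. -/
def fix (E : Subgroup G) : Set Ω := {x | ∀ g ∈ E, g • x = x}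

/-- The stabiliser of two points. -/
def two (x y : Ω) : Subgroup G := stabilizer G x ⊓ stabilizer G y

theorem mem_two {x y : Ω} {g : G} : g ∈ two x y ↔ g • x = x ∧ g • y = y := Iff.rfl

theorem two_comm (x y : Ω) : (two x y : Subgroup G) = two y x := inf_comm _ _

theorem mem_map_conj {E : Subgroup G} {g x : G} :
    x ∈ E.map (MulAut.conj g).toMonoidHom ↔ g⁻¹ * x * g ∈ E := by
  constructor
  · rintro ⟨y, hy, rfl⟩
    simpa [mul_assoc] using hy
  · exact fun h => ⟨g⁻¹ * x * g, h, by simp [mul_assoc]⟩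

theorem card_map_conj (E : Subgroup G) (g : G) :
    Nat.card (E.map (MulAut.conj g).toMonoidHom) = Nat.card E :=
  (Nat.card_congr (E.equivMapOfInjective _ (MulAut.conj g).injective).toEquiv).symm

theorem two_map (g : G) (x y : Ω) :
    (two x y).map (MulAut.conj g).toMonoidHom = two (g • x) (g • y) := by
  ext u
  rw [mem_map_conj, mem_two, mem_two]
  simp only [mul_smul, inv_smul_eq_iff]

theorem fix_map (g : G) (E : Subgroup G) :
    fix (E.map (MulAut.conj g).toMonoidHom) = (fun x : Ω => g • x) '' fix E := by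
  ext z
  constructor
  · intro hz
    refine ⟨g⁻¹ • z, fun u hu => ?_, smul_inv_smul g z⟩
    have h := hz (g * u * g⁻¹) (mem_map_conj.2 (by simpa [mul_assoc] using hu))
    rw [mul_smul, mul_smul, smul_eq_iff_eq_inv_smul] at h
    exact h
  · rintro ⟨x, hx, rfl⟩ u hu
    have h := hx _ (mem_map_conj.1 hu)
    rwa [mul_smul, mul_smul, inv_smul_eq_iff] at h

/-- The sets of `p + 1` points fixed by distinguished subgroups of a two-point stabiliser. -/
def lines (Q : Subgroup G → Subgroup G → Prop) (p : ℕ) (x y : Ω) : Set (Set Ω) :=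
  {W | ∃ E : Subgroup G, E ≤ two x y ∧ Q (two x y) E ∧ fix E = W ∧ W.ncard = p + 1}

variable {Q : Subgroup G → Subgroup G → Prop} {p : ℕ}

theorem mem_lines_symm {x y : Ω} {W : Set Ω} (h : W ∈ lines Q p x y) : W ∈ lines Q p y x := by
  obtain ⟨E, h1, h2, h3, h4⟩ := h
  exact ⟨E, two_comm (G := G) x y ▸ h1, two_comm (G := G) x y ▸ h2, h3, h4⟩

theorem left_mem_line {x y : Ω} {W : Set Ω} (h : W ∈ lines Q p x y) : x ∈ W ∧ y ∈ W := by
  obtain ⟨E, h1, -, rfl, -⟩ := h
  exact ⟨fun g hg => (h1 hg).1, fun g hg => (h1 hg).2⟩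

variable (Q) in
/-- Conjugation invariance of the distinguishing property. -/
def Invariant : Prop := ∀ (T E : Subgroup G) (g : G), Q T E →
  Q (T.map (MulAut.conj g).toMonoidHom) (E.map (MulAut.conj g).toMonoidHom)

theorem line_map (hQ : Invariant Q) (g : G) {x y : Ω} {W : Set Ω} (h : W ∈ lines Q p x y) :
    (fun z => g • z) '' W ∈ lines Q p (g • x) (g • y) := by
  obtain ⟨E, h1, h2, rfl, h4⟩ := h
  refine ⟨E.map (MulAut.conj g).toMonoidHom, ?_, ?_, fix_map g E, ?_⟩
  · exact two_map (G := G) g x y ▸ Subgroup.map_mono h1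
  · exact two_map (G := G) g x y ▸ hQ _ _ g h2
  · rw [Set.ncard_image_of_injective _ (MulAction.injective g), h4]

theorem lines_ncard_eq (hQ : Invariant Q) [Finite Ω] {g : G} {x y x' y' : Ω}
    (hx : g • x = x') (hy : g • y = y') :
    (lines Q p x y).ncard = (lines Q p x' y').ncard := by
  subst hx hy
  refine Set.ncard_congr (fun W _ => (fun z => g • z) '' W) (fun W hW => line_map hQ g hW)
    (fun W V _ _ h => (Set.image_injective.2 (MulAction.injective g)) h) fun V hV => ?_
  refine ⟨(fun z => g⁻¹ • z) '' V, ?_, ?_⟩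
  · have h := line_map hQ g⁻¹ hV
    rwa [inv_smul_smul, inv_smul_smul] at h
  · rw [Set.image_image]
    simp

/-- The divisibility. -/
theorem dvd_two_mul [Finite Ω] (hn : Nat.card Ω = p ^ 2 + 1) (hp : p.Prime) (hQ : Invariant Q)
    (h2 : ∀ x y x' y' : Ω, x ≠ y → x' ≠ y' → ∃ g : G, g • x = x' ∧ g • y = y')
    (a b : Ω) (hab : a ≠ b)
    (hmove : ∀ y z : Ω, ∀ W ∈ lines Q p a y, y ≠ a → z ∈ W → z ≠ a → W ∈ lines Q p a z) :
    p + 1 ∣ 2 * (lines Q p a b).ncard := by
  classical
  have := Fintype.ofFinite Ω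
  have hmove' : ∀ x y z : Ω, ∀ W ∈ lines Q p x y, x ≠ y → z ∈ W → z ≠ x → W ∈ lines Q p x z := by
    intro x y z W hW hxy hz hzx
    obtain ⟨g, hg, -⟩ := h2 x y a b hxy hab
    have hne : ∀ w, w ≠ x → g • w ≠ a := fun w hw h => hw (MulAction.injective g (h.trans hg.symm))
    have hW' : (fun w => g • w) '' W ∈ lines Q p a (g • y) := hg ▸ line_map hQ g hW
    have h := hmove (g • y) (g • z) _ hW' (hne y hxy.symm) ⟨z, hz, rfl⟩ (hne z hzx)
    have h' := line_map hQ g⁻¹ h
    rw [inv_smul_smul, ← hg, inv_smul_smul, Set.image_image] at h'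
    simpa using h'
  set m := (lines Q p a b).ncard with hm
  set T : Finset ((Ω × Ω) × Set Ω) :=
    Finset.univ.filter (fun q => q.1.1 ≠ q.1.2 ∧ q.2 ∈ lines Q p q.1.1 q.1.2) with hT
  have hcount1 : T.card = (Finset.univ : Finset Ω).offDiag.card * m := by
    rw [Finset.card_eq_sum_card_fiberwise (f := fun q => q.1) (t := (Finset.univ : Finset Ω).offDiag)
      (fun q hq => by simp [hT] at hq; simp [hq.1])]
    rw [Finset.sum_const_nat (m := m)]
    rintro ⟨x, y⟩ hxy
    have hne : x ≠ y := by simpa using hxy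
    obtain ⟨g, hg1, hg2⟩ := h2 x y a b hne hab
    rw [hm, ← lines_ncard_eq hQ hg1 hg2, Set.ncard_eq_toFinset_card']
    refine Finset.card_bij (fun q _ => q.2) (fun q hq => ?_) (fun q hq r hr h => ?_) (fun W hW => ?_)
    · simp only [hT, Finset.mem_filter, Finset.mem_univ, true_and] at hq
      simp only [Set.mem_toFinset]
      have := hq.1.2
      rw [hq.2] at this
      exact this
    · simp only [hT, Finset.mem_filter] at hq hr
      exact Prod.ext (hq.2.trans hr.2.symm) h
    · exact ⟨((x, y), W), by simp [hT, hne, Set.mem_toFinset.1 hW], rfl⟩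
  have hcount2 : (p + 1) * p ∣ T.card := by
    rw [Finset.card_eq_sum_card_fiberwise (f := fun q => q.2) (t := Finset.univ)
      (fun q _ => Finset.mem_univ _)]
    refine Finset.dvd_sum fun W _ => ?_
    by_cases hW : ∃ x y, x ≠ y ∧ W ∈ lines Q p x y
    · obtain ⟨x, y, hne, hl⟩ := hW
      have hsz : W.toFinset.card = p + 1 := by
        obtain ⟨E, -, -, rfl, h⟩ := hl
        rwa [← Set.ncard_eq_toFinset_card']
      refine dvd_of_eq (Eq.trans (by rw [hsz]; simp [Nat.mul_sub, mul_comm]; ring_nf; omega)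
        (Eq.trans (Finset.offDiag_card W.toFinset).symm ?_))
      refine Finset.card_bij (fun q _ => (q, W)) (fun q hq => ?_) (fun q _ r _ h => congrArg Prod.fst h)
        (fun q hq => ?_)
      · simp only [Finset.mem_offDiag, Set.mem_toFinset] at hq
        simp only [hT, Finset.mem_filter, Finset.mem_univ, true_and, and_true]
        refine ⟨hq.2.2, ?_⟩
        by_cases h1 : q.1 = x
        · exact h1 ▸ hmove' x y q.2 W hl hne hq.2.1 (fun e => hq.2.2 (h1.trans e.symm))
        · exact hmove' q.1 x q.2 W (mem_lines_symm (hmove' x y q.1 W hl hne hq.1 h1)) h1 hq.2.1 (Ne.symm hq.2.2)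
      · simp only [hT, Finset.mem_filter, Finset.mem_univ, true_and] at hq
        obtain ⟨⟨hne', hl'⟩, rfl⟩ := hq
        exact ⟨q.1, by simp [left_mem_line hl', hne'], rfl⟩
    · rw [Finset.filter_eq_empty_iff.2 fun q hq hqW => hW ⟨q.1.1, q.1.2, ?_⟩]
      · simp
      · simp only [hT, Finset.mem_filter] at hq
        exact hqW ▸ hq.2
  rw [hcount1, Finset.offDiag_card, Finset.card_univ, ← Nat.card_eq_fintype_card, hn] at hcount2
  have e : (p ^ 2 + 1) * (p ^ 2 + 1) - (p ^ 2 + 1) = p * ((p ^ 2 + 1) * p) := by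
    rw [Nat.sub_eq_iff_eq_add (Nat.le_mul_self _)]; ring
  rw [e, mul_assoc, mul_comm (p + 1) p] at hcount2
  have h3 := Nat.dvd_of_mul_dvd_mul_left hp.pos hcount2
  have hc : Nat.Coprime (p + 1) p := by simp
  rw [mul_right_comm] at h3
  have h4 : p + 1 ∣ (p ^ 2 + 1) * m := hc.dvd_of_dvd_mul_right h3
  have h5 : p + 1 ∣ (p - 1) * (p + 1) * m := Dvd.dvd.mul_right (Dvd.intro_left _ rfl) _
  have h6 : (p - 1) * (p + 1) * m + 2 * m = (p ^ 2 + 1) * m := by
    obtain ⟨k, rfl⟩ : ∃ k, p = k + 1 := ⟨p - 1, by have := hp.pos; omega⟩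
    simp only [Nat.add_sub_cancel]; ring
  exact (Nat.dvd_add_right h5).1 (h6 ▸ h4)

end Cfsg.Agent.PSqPlus
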