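import Cfsg.Agent.PSqPlus.Block

/-!
# Lines from normal subgroups of two-point stabilisers
-/

set_option autoImplicit false

namespace Cfsg.Agent.PSqPlus

open MulAction

variable {G : Type*} [Group G] [Finite G] {Ω : Type*} [Finite Ω] [MulAction G Ω] {p : ℕ}

/-- `E` is normalised by `T`. -/
def NormalIn (T E : Subgroup G) : Prop := ∀ t ∈ T, ∀ x ∈ E, t * x * t⁻¹ ∈ E

omit [Finite G] in
theorem invariant_normalIn : Invariant (NormalIn (G := G)) := by
  intro T E g h t ht x hx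
  rw [mem_map_conj] at ht hx ⊢
  have := h _ ht _ hx
  simpa [mul_assoc] using this

namespace Setup

variable {S : Setup G Ω p} {P : Subgroup G}

namespace Regular

variable (R : S.Regular P)

/-- Every line through `a` and `b` is the block or the fixed set of `K_b`. -/
def LineClass (_R : S.Regular P) : Prop :=
  ∀ (b : Ω), b ≠ S.a → ∀ (W : Set Ω), W ∈ lines (NormalIn (G := G)) p S.a b →
    W = insert S.a (S.blk b) ∨ W = fix (S.K ⊓ stabilizer G b)

include R

theorem K_inf_eq {b c : Ω} (hb : b ≠ S.a) (hc : c ≠ S.a)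
    (h : c ∈ fix (S.K ⊓ stabilizer G b)) : S.K ⊓ stabilizer G c = S.K ⊓ stabilizer G b := by
  refine (Subgroup.eq_of_le_of_card_ge (le_inf inf_le_left fun k hk => h k hk) ?_).symm
  exact le_of_eq (Nat.eq_of_mul_eq_mul_left S.prime.pos ((R.card_K hc).symm.trans (R.card_K hb)))

theorem p_eq_three (hcl : R.LineClass) {b : Ω} (hb : b ≠ S.a) {W₀ : Set Ω}
    (hex : W₀ ∈ lines (NormalIn (G := G)) p S.a b) : p = 3 := by
  have hdvd := dvd_two_mul S.card S.prime invariant_normalIn S.trans S.a b hb.symm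
    fun y z W hW hy hzW hz => by
    rcases hcl y hy W hW with h | h
    · have hzb : z ∈ S.blk y := by
        rw [h] at hzW
        exact hzW.resolve_left hz
      obtain ⟨g, hg1, hg2⟩ := S.trans S.a y S.a z hy.symm hz.symm
      have h' := line_map invariant_normalIn g hW
      have himg : (fun w => g • w) '' W = W := by
        rw [h, Set.image_insert_eq, hg1, S.blk_smul hg1 hy, hg2, S.blk_eq y z hy hzb]
      rwa [hg1, hg2, himg] at h'
    · obtain ⟨E, -, -, -, hsz⟩ := hW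
      rw [h] at hzW
      have heq := R.K_inf_eq hy hz hzW
      exact ⟨S.K ⊓ stabilizer G z, R.K_inf_le, fun t ht k hk =>
        ⟨S.K_normal ht.1 hk.1, by
          show (t * k * t⁻¹) • z = z
          rw [mul_smul, mul_smul, (inv_smul_eq_iff.2 ht.2.symm : t⁻¹ • z = z),
            (hk.2 : k • z = z), (ht.2 : t • z = z)]⟩,
        by rw [heq, h], hsz⟩
  have hm1 : 1 ≤ (lines (NormalIn (G := G)) p S.a b).ncard :=
    (Set.ncard_pos).2 ⟨W₀, hex⟩
  have hm2 : (lines (NormalIn (G := G)) p S.a b).ncard ≤ 2 := by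
    refine (Set.ncard_le_ncard (t := {insert S.a (S.blk b), fix (S.K ⊓ stabilizer G b)})
      fun W hW => hcl b hb W hW).trans ?_
    exact (Set.ncard_insert_le _ _).trans (by rw [Set.ncard_singleton])
  have := Nat.le_of_dvd (by omega) hdvd
  have := S.three_le
  omega

theorem lineClass (hN : R.ZNormal) : R.LineClass := by
  rintro b hb W ⟨E, hE, hEn, rfl, hW⟩
  by_cases hc : ∀ e ∈ E, ∀ z ∈ R.Z, e * z = z * e
  · left
    refine (Set.eq_of_subset_of_ncard_le ?_ ?_).symm
    · refine Set.insert_subset (fun g hg => (hE hg).1) ?_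
      intro c hc' e he
      obtain ⟨z, hz, rfl⟩ := (R.blk_iff hb).1 hc'
      rw [smul_smul, hc e he z hz, mul_smul, (hE he).2]
    · rw [hW, Set.ncard_insert_of_notMem (S.not_mem b hb), S.size b hb]
  right
  push Not at hc
  obtain ⟨e₀, he₀, z₀, hz₀, hne⟩ := hc
  set F : Set Ω := fix E \ {S.a} with hF
  have hFne : ∀ c ∈ F, c ≠ S.a := fun c hc => hc.2
  have hFcard : F.ncard = p := by
    rw [hF, Set.ncard_sdiff_singleton_of_mem (a := S.a) (show S.a ∈ fix E from fun g hg => (hE hg).1), hW]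
    omega
  have hone : ∀ c ∈ F, ∀ d ∈ F, d ∈ S.blk c → c = d := by
    intro c hc d hd hdc
    obtain ⟨z, hz, rfl⟩ := (R.blk_iff (hFne c hc)).1 hdc
    by_cases h1 : z = 1
    · rw [h1, one_smul]
    exfalso
    have hu : e₀ * z * e₀⁻¹ = z :=
      (R.reg c (z • c) (hFne c hc) (hFne _ hd)).unique
        ⟨(hN e₀ (hE he₀).1 z hz).1, by
          rw [mul_smul, mul_smul, inv_smul_eq_iff.2 (hc.1 e₀ he₀).symm, hd.1 e₀ he₀]⟩ ⟨hz.1, rfl⟩
    exact hne (R.commute_of_commute hz h1 (mul_inv_eq_iff_eq_mul.1 hu) z₀ hz₀)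
  have hmeet := fun (x : Ω) (hx : x ≠ S.a) => R.meets_all hFne hFcard hone hx
  have hEK : E ≤ S.K := fun e he => ⟨(hE he).1, fun x hx => by
    obtain ⟨c, hc, hcx⟩ := hmeet x hx
    have heq := S.blk_eq x c hx hcx
    have := S.equiv e c x (hE he).1 (hFne c hc) (heq ▸ S.mem x hx)
    rwa [hc.1 e he, heq] at this⟩
  refine Set.Subset.antisymm ?_ fun c hc e he => hc e ⟨hEK he, (hE he).2⟩
  intro c hc k hk
  by_cases hca : c = S.a
  · exact hca ▸ hk.1.1
  have hkc : k • c ∈ F := by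
    refine ⟨fun e he => ?_, S.smul_ne hk.1.1 hca⟩
    have hmem : (k * e)⁻¹ * (e * k) ∈ R.Z := by
      refine R.mem_Z_of_commute (S.K.mul_mem (S.K.inv_mem (S.K.mul_mem hk.1 (hEK he)))
        (S.K.mul_mem (hEK he) hk.1)) fun z hz => ?_
      have h := R.conj_comm hN (hE he).1 hk.1.1 z hz
      calc (k * e)⁻¹ * (e * k) * z = (k * e)⁻¹ * (e * k * z * (e * k)⁻¹) * (e * k) := by group
        _ = (k * e)⁻¹ * (k * e * z * (k * e)⁻¹) * (e * k) := by rw [h]
        _ = z * ((k * e)⁻¹ * (e * k)) := by group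
    have h1 := R.eq_one hmem.1 hb (by
      have hkb : k • b = b := hk.2
      have heb : e • b = b := (hE he).2
      rw [mul_smul, mul_smul, hkb, heb, inv_smul_eq_iff, mul_smul, heb, hkb])
    rw [inv_mul_eq_one] at h1
    rw [smul_smul, ← h1, mul_smul, hc e he]
  exact (hone c ⟨hc, hca⟩ _ hkc (hk.1.2 c hca)).symm

/-- With three blocks an element fixing two blocks fixes all three. -/
theorem mem_K_of_two (h3 : p = 3) {g : G} {b c : Ω} (hg : g • S.a = S.a) (hb : b ≠ S.a)
    (hc : c ≠ S.a) (hcb : c ∉ S.blk b) (h1 : g • b ∈ S.blk b) (h2 : g • c ∈ S.blk c) : g ∈ S.K := by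
  refine ⟨hg, fun x hx => ?_⟩
  have same : ∀ u v, u ≠ S.a → v ∈ S.blk u → g • u ∈ S.blk u → g • v ∈ S.blk v := by
    intro u v hu hv hgu
    have := S.equiv g u v hg hu hv
    rwa [S.blk_eq u _ hu hgu, ← S.blk_eq u v hu hv] at this
  by_cases hxb : x ∈ S.blk b
  · exact same b x hb hxb h1
  by_cases hxc : x ∈ S.blk c
  · exact same c x hc hxc h2
  have hinj : ∀ u, u ≠ S.a → g • u ∈ S.blk u → x ∉ S.blk u → g • x ∉ S.blk u := by
    intro u hu hgu hxu h
    have hi : g⁻¹ • S.a = S.a := by rw [inv_smul_eq_iff, hg]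
    rw [← S.blk_eq u _ hu hgu] at h
    have := S.equiv g⁻¹ _ _ hi (S.smul_ne hg hu) h
    rw [inv_smul_smul, inv_smul_smul] at this
    exact hxu this
  have hne1 : b ≠ c := fun h => hcb (h ▸ S.mem b hb)
  have hne2 : b ≠ x := fun h => hxb (h ▸ S.mem b hb)
  have hne3 : c ≠ x := fun h => hxc (h ▸ S.mem c hc)
  obtain ⟨d, hd, hd'⟩ := R.meets_all (F := {b, c, x})
    (by rintro d (rfl | rfl | rfl) <;> assumption)
    (by rw [h3]; exact Set.ncard_eq_three.2 ⟨b, c, x, hne1, hne2, hne3, rfl⟩)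
    (by
      have sym : ∀ u v, u ≠ S.a → v ∈ S.blk u → u ∈ S.blk v := fun u v hu hv =>
        (S.blk_eq u v hu hv).symm ▸ S.mem u hu
      rintro u (rfl | rfl | rfl) v (rfl | rfl | rfl) h <;> first
        | rfl
        | exact absurd h ‹_›
        | exact absurd (sym _ _ ‹_› h) ‹_›)
    (S.smul_ne hg hx)
  rcases hd with rfl | rfl | rfl
  · exact absurd (S.blk_eq _ _ (S.smul_ne hg hx) hd' ▸ S.mem _ (S.smul_ne hg hx)) (hinj _ hb h1 hxb)
  · exact absurd (S.blk_eq _ _ (S.smul_ne hg hx) hd' ▸ S.mem _ (S.smul_ne hg hx)) (hinj _ hc h2 hxc)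
  · exact S.blk_eq _ _ (S.smul_ne hg hx) hd' ▸ S.mem _ (S.smul_ne hg hx)

/-- `P` is normal in the stabiliser when `Z` is. -/
theorem normal_of_zNormal (hN : R.ZNormal) :
    ∀ h : G, h • S.a = S.a → ∀ x ∈ P, h * x * h⁻¹ ∈ P := by
  obtain ⟨b, hb⟩ := S.exists_ne
  set E : Subgroup G := two S.a b ⊓ Subgroup.centralizer (R.Z : Set G) with hE
  have hEc : ∀ e ∈ E, ∀ z ∈ R.Z, z * e = e * z := fun e he z hz =>
    (Subgroup.mem_centralizer_iff.1 he.2) z hz
  have hdec : ∀ w : G, w • S.a = S.a → (∀ z ∈ R.Z, z * w = w * z) → ∃ x ∈ P, x⁻¹ * w ∈ E := by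
    intro w hw hwz
    obtain ⟨x, hx, hxb⟩ := R.exists_mem hb (S.smul_ne hw hb)
    refine ⟨x, hx, ⟨?_, ?_⟩, Subgroup.mem_centralizer_iff.2 fun z hz => ?_⟩
    · show (x⁻¹ * w) • S.a = S.a
      rw [mul_smul, hw, inv_smul_eq_iff, R.smul_a hx]
    · show (x⁻¹ * w) • b = b
      rw [mul_smul, inv_smul_eq_iff, hxb]
    · rw [← mul_assoc, R.comm hz.1 (P.inv_mem hx), mul_assoc, hwz z hz, mul_assoc]
  have hw : ∀ h : G, h • S.a = S.a → ∀ x ∈ P,
      (h * x * h⁻¹) • S.a = S.a ∧ ∀ z ∈ R.Z, z * (h * x * h⁻¹) = h * x * h⁻¹ * z := by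
    intro h hh x hx
    have hi : h⁻¹ • S.a = S.a := by rw [inv_smul_eq_iff, hh]
    refine ⟨by rw [mul_smul, mul_smul, hi, R.smul_a hx, hh], fun z hz => ?_⟩
    have hz' := hN h⁻¹ hi z hz
    rw [inv_inv] at hz'
    calc z * (h * x * h⁻¹) = h * (h⁻¹ * z * h * x) * h⁻¹ := by group
      _ = h * (x * (h⁻¹ * z * h)) * h⁻¹ := by rw [R.comm hz'.1 hx]
      _ = h * x * h⁻¹ * z := by group
  by_cases hE1 : E = ⊥
  · intro h hh x hx
    obtain ⟨x', hx', hu⟩ := hdec _ (hw h hh x hx).1 (hw h hh x hx).2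
    rw [hE1, Subgroup.mem_bot, inv_mul_eq_one] at hu
    exact hu ▸ hx'
  have hEle : E ≤ two S.a b := inf_le_left
  have hnorm : ∀ g ∈ P, g • b ∈ fix E → ∀ u, g * u * g⁻¹ ∈ E ↔ u ∈ E := by
    intro g hg hfx
    have hle : E.map (MulAut.conj g⁻¹).toMonoidHom ≤ E := by
      intro u hu
      rw [mem_map_conj, inv_inv] at hu
      refine ⟨⟨?_, ?_⟩, Subgroup.mem_centralizer_iff.2 fun z hz => ?_⟩
      · have h0 : (g * u * g⁻¹) • S.a = S.a := hu.1.1
        rw [mul_smul, mul_smul, inv_smul_eq_iff.2 (R.smul_a hg).symm, smul_eq_iff_eq_inv_smul,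
          inv_smul_eq_iff.2 (R.smul_a hg).symm] at h0
        exact h0
      · have := hfx _ hu
        rw [mul_smul, mul_smul, inv_smul_smul, smul_left_cancel_iff] at this
        exact this
      · have h := hEc _ hu z hz
        calc z * u = g⁻¹ * (g * z) * u := by group
          _ = g⁻¹ * (z * g) * u := by rw [R.comm hg hz.1]
          _ = g⁻¹ * (z * (g * u * g⁻¹)) * g := by group
          _ = g⁻¹ * (g * u * g⁻¹ * z) * g := by rw [h]
          _ = u * (g⁻¹ * (z * g)) := by group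
          _ = u * z := by rw [← R.comm hg hz.1, inv_mul_cancel_left]
    have heq := Subgroup.eq_of_le_of_card_ge hle (card_map_conj E g⁻¹).ge
    intro u
    conv_rhs => rw [← heq, mem_map_conj, inv_inv]
  have hblk : S.blk b ⊆ fix E := fun c hc e he => by
    obtain ⟨z, hz, rfl⟩ := (R.blk_iff hb).1 hc
    rw [smul_smul, ← hEc e he z hz, mul_smul, (hEle he).2]
  have hcard : (fix E : Set Ω).ncard = p + 1 := by
    refine le_antisymm ?_ ?_
    · have := S.fix_le_normalizer_orbit R.le hb (fun c hc => R.exists_mem hb hc) R.isPGroup hE1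
        hEle hnorm
      have := Set.pred_ncard_le_ncard_sdiff_singleton (fix E : Set Ω) S.a
      omega
    · rw [← S.size b hb, ← Set.ncard_insert_of_notMem (S.not_mem b hb)]
      exact Set.ncard_le_ncard (Set.insert_subset (fun g hg => (hEle hg).1) hblk)
  have h3 : p = 3 := R.p_eq_three (R.lineClass hN) hb (W₀ := fix E)
    ⟨E, hEle, fun t ht e he => ⟨⟨by
        show (t * e * t⁻¹) • S.a = S.a
        rw [mul_smul, mul_smul, inv_smul_eq_iff.2 ht.1.symm, (hEle he).1, ht.1], by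
        show (t * e * t⁻¹) • b = b
        rw [mul_smul, mul_smul, inv_smul_eq_iff.2 ht.2.symm, (hEle he).2, ht.2]⟩,
      Subgroup.mem_centralizer_iff.2 fun z hz => by
        have hz' := hN t⁻¹ (inv_smul_eq_iff.2 ht.1.symm) z hz
        rw [inv_inv] at hz'
        calc z * (t * e * t⁻¹) = t * (t⁻¹ * z * t * e) * t⁻¹ := by group
          _ = t * (e * (t⁻¹ * z * t)) * t⁻¹ := by rw [hEc e he _ hz']
          _ = t * e * t⁻¹ * z := by group⟩, rfl, hcard⟩
  have hnK : ∀ e ∈ E, e ∈ S.K → e = 1 := fun e he hek =>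
    R.eq_one (R.mem_Z_of_commute hek fun z hz => (hEc e he z hz).symm).1 hb (hEle he).2
  obtain ⟨e₀, he₀, he1⟩ := (Subgroup.ne_bot_iff_exists_ne_one.1 hE1) |>
    fun ⟨⟨e, he⟩, h⟩ => (⟨e, he, fun hh => h (Subtype.ext hh)⟩ : ∃ e ∈ E, e ≠ 1)
  have honly : ∀ e ∈ E, e = 1 ∨ e = e₀ := by
    intro e he
    by_cases h1 : e = 1
    · exact Or.inl h1
    right
    obtain ⟨c, hc, hcb⟩ : ∃ c, c ≠ S.a ∧ c ∉ S.blk b := by
      by_contra hall
      push Not at hall
      refine h1 (hnK e he ⟨(hEle he).1, fun x hx => ?_⟩)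
      have := S.equiv e b x (hEle he).1 hb (hall x hx)
      rwa [(hEle he).2, ← S.blk_eq b x hb (hall x hx)] at this
    have hfixb : ∀ u ∈ E, u • b ∈ S.blk b := fun u hu => by rw [(hEle hu).2]; exact S.mem b hb
    have hmoves : ∀ u ∈ E, u ≠ 1 → u • c ∉ S.blk c ∧ u • c ∉ S.blk b := by
      intro u hu hu1
      refine ⟨fun h => hu1 (hnK u hu (R.mem_K_of_two h3 (hEle hu).1 hb hc hcb (hfixb u hu) h)),
        fun h => hcb ?_⟩
      have := S.equiv u⁻¹ b _ (hEle (E.inv_mem hu)).1 hb h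
      rwa [inv_smul_smul, (hEle (E.inv_mem hu)).2] at this
    by_contra hne
    have hd : e₀⁻¹ * e ∈ E := E.mul_mem (E.inv_mem he₀) he
    have hd1 : e₀⁻¹ * e ≠ 1 := fun h => hne (inv_mul_eq_one.1 h).symm
    -- `e • c` and `e₀ • c` lie in the third block
    have hsame : e • c ∈ S.blk (e₀ • c) := by
      have hx := S.smul_ne (hEle he₀).1 hc
      have hy := S.smul_ne (hEle he).1 hc
      obtain ⟨d, hd, hd'⟩ := R.meets_all (F := {b, c, e₀ • c})
        (by rintro d (rfl | rfl | rfl) <;> assumption)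
        (by
          rw [h3]
          exact Set.ncard_eq_three.2 ⟨b, c, e₀ • c, fun h => hcb (h ▸ S.mem b hb),
            fun h => (hmoves e₀ he₀ he1).2 (by rw [← h]; exact S.mem b hb),
            fun h => (hmoves e₀ he₀ he1).1 (by rw [← h]; exact S.mem c hc), rfl⟩)
        (by
          have sym : ∀ u v, u ≠ S.a → v ∈ S.blk u → u ∈ S.blk v := fun u v hu hv =>
            (S.blk_eq u v hu hv).symm ▸ S.mem u hu
          have hm := hmoves e₀ he₀ he1
          have hm1 := hm.1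
          have hm2 := hm.2
          rintro u (rfl | rfl | rfl) v (rfl | rfl | rfl) h <;> first
            | rfl
            | exact absurd h ‹_›
            | exact absurd (sym _ _ ‹_› h) ‹_›)
        hy
      have hmem := S.blk_eq _ _ hy hd' ▸ S.mem _ hy
      rcases hd with rfl | rfl | rfl
      · exact absurd hmem (hmoves e he h1).2
      · exact absurd hmem (hmoves e he h1).1
      · exact hmem
    refine (hmoves _ hd hd1).1 ?_
    have := S.equiv e₀⁻¹ _ _ (hEle (E.inv_mem he₀)).1 (S.smul_ne (hEle he₀).1 hc) hsame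
    rwa [inv_smul_smul, smul_smul] at this
  have hnorm0 : ∀ x ∈ P, e₀ * x * e₀⁻¹ ∈ P := by
    intro x hx
    obtain ⟨x', hx', hu⟩ := hdec _ (hw e₀ (hEle he₀).1 x hx).1 (hw e₀ (hEle he₀).1 x hx).2
    rcases honly _ hu with h | h
    · exact (inv_mul_eq_one.1 h) ▸ hx'
    · exfalso
      have h' : e₀ * x * e₀⁻¹ = x' * e₀ := inv_mul_eq_iff_eq_mul.1 h
      have hsq : e₀ * e₀ = 1 := by
        rcases honly _ (E.mul_mem he₀ he₀) with h | h
        · exact h
        · exact absurd (mul_eq_left.1 h) he1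
      have hP : e₀ ∈ P := by
        have : e₀ * x = x' := by
          calc e₀ * x = e₀ * x * e₀⁻¹ * e₀ := by group
            _ = x' * e₀ * e₀ := by rw [h']
            _ = x' := by rw [mul_assoc, hsq, mul_one]
        have := P.mul_mem hx' (P.inv_mem hx)
        rwa [← ‹e₀ * x = x'›, mul_inv_cancel_right] at this
      exact he1 (R.eq_one hP hb (hEle he₀).2)
  intro h hh x hx
  obtain ⟨x', hx', hu⟩ := hdec _ (hw h hh x hx).1 (hw h hh x hx).2
  set w := h * x * h⁻¹ with hwdef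
  rcases honly _ hu with h1 | h1
  · exact (inv_mul_eq_one.1 h1) ▸ hx'
  · exfalso
    have hwe : w = x' * e₀ := inv_mul_eq_iff_eq_mul.1 h1
    have hsq : e₀ * e₀ = 1 := by
      rcases honly _ (E.mul_mem he₀ he₀) with h | h
      · exact h
      · exact absurd (mul_eq_left.1 h) he1
    have h2 : w ^ 2 ∈ P := by
      rw [hwe, pow_two, show x' * e₀ * (x' * e₀) = x' * (e₀ * x' * e₀⁻¹) * (e₀ * e₀) by group,
        hsq, mul_one]
      exact P.mul_mem hx' (hnorm0 x' hx')
    have h9 : w ^ 9 = 1 := by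
      rw [hwdef, conj_pow]
      have : x ^ 9 = 1 := by
        have := Subgroup.orderOf_dvd_natCard P hx
        rw [R.card, h3] at this
        exact orderOf_dvd_iff_pow_eq_one.1 (by norm_num at this ⊢; exact this)
      rw [this, mul_one, mul_inv_cancel]
    have hwP : w ∈ P := by
      have : w = (w ^ 2) ^ 5 := by
        rw [← pow_mul, show 2 * 5 = 9 + 1 by rfl, pow_add, h9, one_mul, pow_one]
      rw [this]
      exact P.pow_mem h2 5
    have heP : e₀ ∈ P := by
      rw [show e₀ = x'⁻¹ * w by rw [hwe, inv_mul_cancel_left]]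
      exact P.mul_mem (P.inv_mem hx') hwP
    exact he1 (R.eq_one heP hb (hEle he₀).2)

end Regular

end Setup

end Cfsg.Agent.PSqPlus
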