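import Cfsg.Agent.PSqPlus.Count

/-!
# Doubly transitive groups of degree `p² + 1` are doubly primitive
-/

set_option autoImplicit false

namespace Cfsg.Agent.PSqPlus

open MulAction
open scoped Pointwise

variable {G : Type*} [Group G] [Finite G] {Ω : Type*} [Finite Ω] [MulAction G Ω] {p : ℕ}

/-- An imprimitive point stabiliser gives a family of blocks. -/
theorem exists_blocks (hp : p.Prime) (hn : Nat.card Ω = p ^ 2 + 1)
    (h2 : ∀ x y x' y' : Ω, x ≠ y → x' ≠ y' → ∃ g : G, g • x = x' ∧ g • y = y') (a : Ω)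
    (hnp : ¬ IsPreprimitive (stabilizer G a) (SubMulAction.ofStabilizer G a)) :
    ∃ blk : Ω → Set Ω, (∀ b, b ≠ a → b ∈ blk b) ∧ (∀ b, b ≠ a → a ∉ blk b) ∧
      (∀ b, b ≠ a → (blk b).ncard = p) ∧ (∀ b c, b ≠ a → c ∈ blk b → blk c = blk b) ∧
      (∀ (g : G) (b c : Ω), g • a = a → b ≠ a → c ∈ blk b → g • c ∈ blk (g • b)) := by
  set Hs := stabilizer G a
  set Y := SubMulAction.ofStabilizer G a
  have htr : IsPretransitive Hs Y := ⟨fun x y => by
    obtain ⟨g, hg1, hg2⟩ := h2 a x a y (Ne.symm x.2) (Ne.symm y.2)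
    exact ⟨⟨g, hg1⟩, Subtype.ext hg2⟩⟩
  obtain ⟨B, hB, hBs, hBu⟩ : ∃ B : Set Y, IsBlock Hs B ∧ ¬ B.Subsingleton ∧ B ≠ Set.univ := by
    by_contra hcon
    push Not at hcon
    exact hnp { toIsPretransitive := htr
                isTrivialBlock_of_isBlock := fun {B} hB =>
                  or_iff_not_imp_left.2 fun h => hcon _ hB (Set.not_subsingleton_iff.1 h) }
  have hYcard : Nat.card Y = p ^ 2 := by
    have h : Nat.card ({a}ᶜ : Set Ω) = p ^ 2 := by
      rw [Nat.card_coe_set_eq, Set.ncard_compl, Set.ncard_singleton, hn]; omega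
    rw [← h]
    exact Nat.card_congr (Equiv.subtypeEquivRight fun x => Iff.rfl)
  have hne : B.Nonempty := Set.nonempty_iff_ne_empty.2 fun h => hBs (h ▸ Set.subsingleton_empty)
  have hBcard : B.ncard = p := by
    have h := hB.ncard_block_mul_ncard_orbit_eq hne
    rw [hYcard] at h
    obtain ⟨k, hk, he⟩ := (Nat.dvd_prime_pow hp).1 (Dvd.intro _ h)
    interval_cases k
    · exact absurd ((Set.ncard_le_one_iff_subsingleton).1 (le_of_eq (by rw [he, pow_zero]))) hBs
    · rw [he, pow_one]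
    · exact absurd (Set.eq_of_subset_of_ncard_le (Set.subset_univ B) (by rw [Set.ncard_univ, he, hYcard])) hBu
  obtain ⟨β₀, hβ₀⟩ := hne
  have hkey : ∀ (g g' : Hs) (x : Y), x ∈ g • B → x ∈ g' • B → g • B = g' • B := fun g g' x h h' =>
    hB.smul_eq_smul_of_nonempty ⟨x, h, h'⟩
  refine ⟨fun b => {c | ∃ (g : Hs) (x y : Y), (x : Ω) = b ∧ (y : Ω) = c ∧ x ∈ g • B ∧ y ∈ g • B}, ?_⟩
  have hform : ∀ (b : Ω) (hb : b ≠ a), ∃ g : Hs, (⟨b, hb⟩ : Y) ∈ g • B := fun b hb => by
    obtain ⟨g, hg⟩ := exists_smul_eq Hs β₀ (⟨b, hb⟩ : Y)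
    exact ⟨g, hg ▸ Set.smul_mem_smul_set hβ₀⟩
  have hblk : ∀ (b : Ω) (hb : b ≠ a) (g : Hs), (⟨b, hb⟩ : Y) ∈ g • B →
      {c | ∃ (g : Hs) (x y : Y), (x : Ω) = b ∧ (y : Ω) = c ∧ x ∈ g • B ∧ y ∈ g • B}
        = Subtype.val '' (g • B) := by
    intro b hb g hg
    ext c
    constructor
    · rintro ⟨g', x, y, hx, rfl, hxB, hyB⟩
      have : x = (⟨b, hb⟩ : Y) := Subtype.ext hx
      subst this
      exact ⟨y, hkey g' g _ hxB hg ▸ hyB, rfl⟩
    · rintro ⟨y, hy, rfl⟩
      exact ⟨g, _, y, rfl, rfl, hg, hy⟩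
  refine ⟨fun b hb => ?_, fun b hb => ?_, fun b hb => ?_, fun b c hb hc => ?_, fun g b c hg hb hc => ?_⟩
  · obtain ⟨g, hg⟩ := hform b hb
    exact ⟨g, _, _, rfl, rfl, hg, hg⟩
  · rintro ⟨g, x, y, -, hy, -, -⟩
    exact y.2 hy
  · obtain ⟨g, hg⟩ := hform b hb
    simp only []
    rw [hblk b hb g hg, Set.ncard_image_of_injective _ Subtype.val_injective, Set.ncard_smul_set, hBcard]
  · obtain ⟨g, hg⟩ := hform b hb
    have hc' : c ∈ Subtype.val '' (g • B) := hblk b hb g hg ▸ hc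
    obtain ⟨y, hy, rfl⟩ := hc'
    show {c | _} = {c | _}
    rw [hblk b hb g hg, hblk y.1 y.2 g hy]
  · obtain ⟨h, x, y, rfl, rfl, hx, hy⟩ := hc
    refine ⟨⟨g, hg⟩ * h, (⟨g, hg⟩ : Hs) • x, (⟨g, hg⟩ : Hs) • y, rfl, rfl, ?_, ?_⟩
    · rw [mul_smul]; exact Set.smul_mem_smul_set hx
    · rw [mul_smul]; exact Set.smul_mem_smul_set hy

/-- The odd case. -/
theorem false_of_setup (S : Setup G Ω p) : False := by
  classical
  have : Fact p.Prime := ⟨S.prime⟩
  have := Fintype.ofFinite Ω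
  obtain ⟨P, R⟩ := S.exists_regular
  set φ := MulAction.toPermHom G Ω with hφ
  set G' : Subgroup G := (Equiv.Perm.sign.comp φ).ker with hG'
  have hodd := S.prime.odd_of_ne_two S.odd
  have hpp : ∀ x : G, x ^ (p ^ 2) = 1 → x ∈ G' := by
    intro x hx
    obtain ⟨m, hm⟩ := hodd.pow (n := 2)
    rw [hG', MonoidHom.mem_ker]
    set u := (Equiv.Perm.sign.comp φ) x with hu
    have h1 : u ^ (p ^ 2) = 1 := by rw [hu, ← map_pow, hx, map_one]
    rwa [hm, pow_succ, pow_mul, Int.units_sq, one_pow, one_mul] at h1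
  have hPG : P ≤ G' := fun x hx => hpp x (by
    rw [← R.card]; exact orderOf_dvd_iff_pow_eq_one.1 (Subgroup.orderOf_dvd_natCard P hx))
  -- transitivity of the even subgroup
  have hstab : ∀ w x y : Ω, x ≠ w → y ≠ w → ∃ g ∈ G', g • w = w ∧ g • x = y := by
    intro w x y hx hy
    obtain ⟨b, hb⟩ := S.exists_ne
    obtain ⟨k, hk, -⟩ := S.trans S.a b w x hb.symm hx.symm
    have hki : k⁻¹ • w = S.a := inv_smul_eq_iff.2 hk.symm
    obtain ⟨u, hu, hue⟩ := R.exists_mem (b := k⁻¹ • x) (c := k⁻¹ • y)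
      (fun h => hx (MulAction.injective k⁻¹ (h.trans hki.symm)))
      (fun h => hy (MulAction.injective k⁻¹ (h.trans hki.symm)))
    refine ⟨k * u * k⁻¹, hpp _ ?_, ?_, ?_⟩
    · rw [conj_pow, show u ^ (p ^ 2) = 1 by
        rw [← R.card]; exact orderOf_dvd_iff_pow_eq_one.1 (Subgroup.orderOf_dvd_natCard P hu)]
      simp
    · rw [mul_smul, mul_smul, hki, R.smul_a hu, hk]
    · rw [mul_smul, mul_smul, hue, smul_inv_smul]
  have htrans : ∀ x y x' y' : Ω, x ≠ y → x' ≠ y' → ∃ g : G', g • x = x' ∧ g • y = y' := by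
    intro x y x' y' hxy hxy'
    have hone : ∀ u v : Ω, ∃ g ∈ G', g • u = v := by
      intro u v
      obtain ⟨w, hwu, hwv⟩ : ∃ w, w ≠ u ∧ w ≠ v := by
        by_contra hcon
        push Not at hcon
        have : (Set.univ : Set Ω) ⊆ {u, v} := fun w _ => by
          by_cases h : w = u
          · exact Or.inl h
          · exact Or.inr (hcon w h)
        have h1 := Set.ncard_le_ncard this
        rw [Set.ncard_univ, S.card] at h1
        have h2 : ({u, v} : Set Ω).ncard ≤ 2 := (Set.ncard_insert_le _ _).trans (by rw [Set.ncard_singleton])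
        have := S.three_le
        nlinarith
      obtain ⟨g, hg, -, h⟩ := hstab w u v hwu.symm hwv.symm
      exact ⟨g, hg, h⟩
    obtain ⟨g, hg, hgx⟩ := hone x x'
    obtain ⟨g', hg', h1, h2⟩ := hstab x' (g • y) y'
      (fun h => hxy (MulAction.injective g (hgx.trans h.symm))) hxy'.symm
    exact ⟨⟨g' * g, G'.mul_mem hg' hg⟩, by show (g' * g) • x = x'; rw [mul_smul, hgx, h1],
      by show (g' * g) • y = y'; rw [mul_smul, h2]⟩
  let S' : Setup G' Ω p :=
  { prime := S.prime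
    odd := S.odd
    card := S.card
    trans := htrans
    faithful := ⟨fun {g h} H => Subtype.ext (S.faithful.eq_of_smul_eq_smul H)⟩
    a := S.a
    blk := S.blk
    mem := S.mem
    not_mem := S.not_mem
    size := S.size
    blk_eq := S.blk_eq
    equiv := fun g b c hg hb hc => S.equiv (g : G) b c hg hb hc }
  obtain ⟨P', R'⟩ := S'.exists_regular
  refine R'.false_of_even (R'.normal_of_zNormal R'.zNormal) fun g hg => ?_
  set σ : Equiv.Perm Ω := φ (g : G) with hσ
  have hσ2 : σ ^ 2 = 1 := by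
    rw [hσ, ← map_pow, pow_two, show (g : G) * g = 1 from congrArg Subtype.val hg, map_one]
  have hs : Equiv.Perm.sign σ = 1 := g.2
  rw [Equiv.Perm.sign_of_pow_two_eq_one hσ2] at hs
  have hfix : Fintype.card (Function.fixedPoints σ) = {x : Ω | g • x = x}.ncard := by
    rw [← Nat.card_eq_fintype_card, Nat.card_coe_set_eq]
    rfl
  rw [hfix, ← Nat.card_eq_fintype_card] at hs
  set f := {x : Ω | g • x = x}.ncard with hf
  have heven : Even ((Nat.card Ω - f) / 2) := by
    rcases Nat.even_or_odd ((Nat.card Ω - f) / 2) with h | h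
    · exact h
    · rw [h.neg_one_pow] at hs
      exact absurd hs (by decide)
  have hmod : σ.supportᶜ.card ≡ Fintype.card Ω [MOD 2] := by
    have := Fact.mk Nat.prime_two
    exact Equiv.Perm.card_compl_support_modEq (n := 1) (by rw [pow_one, hσ2])
  have hcompl : σ.supportᶜ.card = f := by
    rw [hf, Set.ncard_eq_toFinset_card']
    congr 1
    ext x
    simp [Equiv.Perm.mem_support, hσ, hφ]
    rfl
  rw [hcompl, ← Nat.card_eq_fintype_card] at hmod
  have hle : f ≤ Nat.card Ω := Set.ncard_le_card _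
  obtain ⟨m, hm⟩ := heven
  have := Nat.div_add_mod (Nat.card Ω - f) 2
  unfold Nat.ModEq at hmod
  omega

/-- Degree five. -/
theorem card_eq_twenty [FaithfulSMul G Ω] (hn : Nat.card Ω = 5)
    (h2 : ∀ x y x' y' : Ω, x ≠ y → x' ≠ y' → ∃ g : G, g • x = x' ∧ g • y = y') (a : Ω)
    (blk : Ω → Set Ω) (hmem : ∀ b, b ≠ a → b ∈ blk b) (hnot : ∀ b, b ≠ a → a ∉ blk b)
    (hsize : ∀ b, b ≠ a → (blk b).ncard = 2)
    (hequiv : ∀ (g : G) (b c : Ω), g • a = a → b ≠ a → c ∈ blk b → g • c ∈ blk (g • b)) :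
    Nat.card G = 20 := by
  classical
  have := Fintype.ofFinite Ω
  have : Nontrivial Ω := Finite.one_lt_card_iff_nontrivial.1 (by omega)
  obtain ⟨b, hb⟩ := exists_ne a
  set φ := MulAction.toPermHom G Ω with hφ
  have hφi : Function.Injective φ := MulAction.toPerm_injective
  by_cases hD : (two a b : Subgroup G) = ⊥
  · have h1 : Nat.card (orbit G a) * Nat.card (stabilizer G a) = Nat.card G := by
      rw [← Nat.card_prod, Nat.card_congr (orbitProdStabilizerEquivGroup G a)]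
    have h3 : Nat.card (orbit G a) = 5 := by
      rw [Nat.card_coe_set_eq, ← hn, ← Set.ncard_univ]
      congr 1
      refine Set.eq_univ_of_forall fun x => ?_
      by_cases hx : x = a
      · exact hx ▸ mem_orbit_self x
      · obtain ⟨g, hg, -⟩ := h2 a x x a (Ne.symm hx) hx
        exact ⟨g, hg⟩
    have h4 : Nat.card (stabilizer G a) = 4 := by
      have h5 : ({a}ᶜ : Set Ω).ncard = 4 := by rw [Set.ncard_compl, Set.ncard_singleton, hn]
      rw [← h5, ← Nat.card_coe_set_eq]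
      refine Nat.card_eq_of_bijective
        (fun g => (⟨(g : G) • b, fun h => hb (MulAction.injective (g : G) (h.trans g.2.symm))⟩ : ({a}ᶜ : Set Ω))) ⟨?_, ?_⟩
      · intro g h e
        have e' : (g : G) • b = (h : G) • b := congrArg Subtype.val e
        have : (h : G)⁻¹ * g ∈ (two a b : Subgroup G) := ⟨by
          show ((h : G)⁻¹ * g) • a = a
          rw [mul_smul, (g.2 : (g : G) • a = a), inv_smul_eq_iff, (h.2 : (h : G) • a = a)], by
          show ((h : G)⁻¹ * g) • b = b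
          rw [mul_smul, e', inv_smul_smul]⟩
        rw [hD, Subgroup.mem_bot, inv_mul_eq_one] at this
        exact Subtype.ext this.symm
      · rintro ⟨c, hc⟩
        obtain ⟨g, hg1, hg2⟩ := h2 a b a c hb.symm (Ne.symm hc)
        exact ⟨⟨g, hg1⟩, Subtype.ext hg2⟩
    rw [← h1, h3, h4]
  exfalso
  obtain ⟨⟨d, hd⟩, hd1⟩ := Subgroup.ne_bot_iff_exists_ne_one.1 hD
  obtain ⟨b', hb', hne⟩ := Set.exists_ne_of_one_lt_ncard (by rw [hsize b hb]; norm_num) b
  have hb'a : b' ≠ a := fun h => hnot b hb (h ▸ hb')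
  have hdb' : d • b' = b' := by
    have h := hequiv d b b' hd.1 hb hb'
    rw [(hd.2 : d • b = b)] at h
    by_contra hne'
    have hsub : ({b, b', d • b'} : Set Ω) ⊆ blk b := by
      rintro x (rfl | rfl | rfl)
      · exact hmem x hb
      · exact hb'
      · exact h
    have h3 : ({b, b', d • b'} : Set Ω).ncard = 3 := Set.ncard_eq_three.2
      ⟨b, b', _, Ne.symm hne, fun e => hne (MulAction.injective d (e.symm.trans hd.2.symm)), Ne.symm hne', rfl⟩
    have := Set.ncard_le_ncard hsub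
    rw [h3, hsize b hb] at this
    omega
  have hsupp : (φ d).support ⊆ ({a, b, b'} : Finset Ω)ᶜ := by
    intro x hx
    rw [Equiv.Perm.mem_support] at hx
    simp only [Finset.mem_compl, Finset.mem_insert, Finset.mem_singleton, not_or]
    exact ⟨fun e => hx (e ▸ hd.1), fun e => hx (e ▸ hd.2), fun e => hx (e ▸ hdb')⟩
  have hle : (φ d).support.card ≤ 2 := by
    refine (Finset.card_le_card hsupp).trans ?_
    rw [Finset.card_compl, ← Nat.card_eq_fintype_card, hn, Finset.card_eq_three.2 ⟨a, b, b', hb.symm, hb'a.symm, Ne.symm hne, rfl⟩]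
  have hdne : φ d ≠ 1 := fun h => hd1 (Subtype.ext (hφi (h.trans (map_one φ).symm)))
  have h2s : (φ d).support.card = 2 := le_antisymm hle (Equiv.Perm.two_le_card_support_of_ne_one hdne)
  obtain ⟨x, y, hxy, hswap⟩ := Equiv.Perm.card_support_eq_two.1 h2s
  have htop : φ.range = ⊤ := by
    rw [eq_top_iff, ← Equiv.Perm.closure_isSwap, Subgroup.closure_le]
    rintro τ ⟨u, v, huv, rfl⟩
    obtain ⟨g, hgu, hgv⟩ := h2 x y u v hxy huv
    refine ⟨g * d * g⁻¹, ?_⟩
    rw [map_mul, map_mul, map_inv, hswap, ← Equiv.swap_apply_apply]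
    exact congrArg₂ Equiv.swap hgu hgv
  have hG : Nat.card G = 120 := by
    rw [Nat.card_congr (MonoidHom.ofInjective hφi).toEquiv, htop, Subgroup.card_top, Nat.card_perm, hn]
    rfl
  -- `G` contains a three-cycle fixing `a`, which breaks the blocks
  obtain ⟨c, hc⟩ : ∃ c : Ω, c ∉ ({a, b, b'} : Finset Ω) := by
    by_contra hcon
    push Not at hcon
    have := Finset.card_le_card (fun z _ => hcon z : (Finset.univ : Finset Ω) ⊆ {a, b, b'})
    rw [Finset.card_univ, ← Nat.card_eq_fintype_card, hn] at this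
    exact absurd (this.trans Finset.card_le_three) (by omega)
  simp only [Finset.mem_insert, Finset.mem_singleton, not_or] at hc
  obtain ⟨g, hg⟩ : Equiv.swap b' c ∈ φ.range := htop ▸ Subgroup.mem_top _
  have hga : g • a = a := by
    show φ g a = a
    rw [hg, Equiv.swap_apply_of_ne_of_ne hb'a.symm (Ne.symm hc.1)]
  have hgb : g • b = b := by
    show φ g b = b
    rw [hg, Equiv.swap_apply_of_ne_of_ne (Ne.symm hne) (Ne.symm hc.2.1)]
  have hgb' : g • b' = c := by
    show φ g b' = c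
    rw [hg, Equiv.swap_apply_left]
  have h := hequiv g b b' hga hb hb'
  rw [hgb, hgb'] at h
  have h3 : ({b, b', c} : Set Ω).ncard = 3 := Set.ncard_eq_three.2
    ⟨b, b', c, Ne.symm hne, Ne.symm hc.2.1, Ne.symm hc.2.2, rfl⟩
  have hsub : ({b, b', c} : Set Ω) ⊆ blk b := by
    rintro x (rfl | rfl | rfl)
    · exact hmem x hb
    · exact hb'
    · exact h
  have := Set.ncard_le_ncard hsub
  rw [h3, hsize b hb] at this
  omega

end Cfsg.Agent.PSqPlus
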