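import Cfsg.Agent.PSqPlus.Line
import Cfsg.Agent.PSqPlus.Cyclo
import Cfsg.Agent.S0675

/-!
# The blocks kernel has a normal subgroup of order `p`
-/

set_option autoImplicit false

namespace Cfsg.Agent.PSqPlus

open MulAction
open scoped commutatorElement

variable {G : Type*} [Group G] [Finite G] {Ω : Type*} [Finite Ω] [MulAction G Ω] {p : ℕ}

namespace Setup

variable {S : Setup G Ω p} {P : Subgroup G}

namespace Regular

variable (R : S.Regular P)

/-- The subgroup of the kernel generated by elements of order dividing `p`. -/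
def N (_R : S.Regular P) : Subgroup G := Subgroup.closure {x | x ∈ S.K ∧ x ^ p = 1}

include R

theorem N_le : R.N ≤ S.K := (Subgroup.closure_le _).2 fun _ hx => hx.1

theorem pow_prime_Z {z : G} (hz : z ∈ R.Z) : z ^ p = 1 := by
  have h := Subgroup.orderOf_dvd_natCard R.Z hz
  rw [R.card_Z] at h
  exact orderOf_dvd_iff_pow_eq_one.1 h

theorem Z_le_N : R.Z ≤ R.N := fun _ hz => Subgroup.subset_closure ⟨hz.2, R.pow_prime_Z hz⟩

theorem N_normal {h x : G} (hh : h • S.a = S.a) (hx : x ∈ R.N) : h * x * h⁻¹ ∈ R.N := by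
  have : R.N.map (MulAut.conj h).toMonoidHom ≤ R.N := by
    rw [N, MonoidHom.map_closure, Subgroup.closure_le]
    rintro _ ⟨u, ⟨hu, hup⟩, rfl⟩
    refine Subgroup.subset_closure ⟨S.K_normal hh hu, ?_⟩
    show (h * u * h⁻¹) ^ p = 1
    rw [conj_pow, hup, mul_one, mul_inv_cancel]
  exact this ⟨x, hx, rfl⟩

theorem N_inf_ne {b : Ω} (hb : b ≠ S.a) (hNZ : ¬ R.N ≤ R.Z) :
    ∃ n ∈ R.N, n • b = b ∧ n ≠ 1 := by
  by_contra hcon
  push Not at hcon
  refine hNZ fun n hn => ?_
  obtain ⟨z, hz, he⟩ := (R.blk_iff hb).1 ((R.N_le hn).2 b hb)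
  have := hcon (z⁻¹ * n) (R.N.mul_mem (R.N.inv_mem (R.Z_le_N hz)) hn)
    (by rw [mul_smul, ← he, inv_smul_smul])
  exact (inv_mul_eq_one.1 this) ▸ hz

theorem N_inf_card {b : Ω} (hb : b ≠ S.a) :
    Nat.card R.N = p * Nat.card (R.N ⊓ stabilizer G b : Subgroup G) := by
  rw [← orbit_stabilizer_subgroup R.N b]
  congr 1
  refine Eq.trans ?_ (S.size b hb)
  rw [← Nat.card_coe_set_eq (S.blk b)]
  refine Nat.card_congr (Equiv.setCongr ?_)
  ext c
  constructor
  · rintro ⟨⟨k, hk⟩, rfl⟩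
    exact (R.N_le hk).2 b hb
  · intro hc
    obtain ⟨z, hz, rfl⟩ := (R.blk_iff hb).1 hc
    exact ⟨⟨z, R.Z_le_N hz⟩, rfl⟩

theorem N_inf_eq {b c : Ω} (hb : b ≠ S.a) (hc : c ≠ S.a)
    (h : ∀ n ∈ R.N, n • b = b → n • c = c) :
    R.N ⊓ stabilizer G c = R.N ⊓ stabilizer G b := by
  refine (Subgroup.eq_of_le_of_card_ge
    (show R.N ⊓ stabilizer G b ≤ R.N ⊓ stabilizer G c from fun n hn => ⟨hn.1, h n hn.1 hn.2⟩) ?_).symm
  exact le_of_eq (Nat.eq_of_mul_eq_mul_left S.prime.pos ((R.N_inf_card hc).symm.trans (R.N_inf_card hb)))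

theorem ne_three (hNZ : ¬ R.N ≤ R.Z) : p ≠ 3 := by
  intro h3
  obtain ⟨b, hb⟩ := S.exists_ne
  have hKb : Nat.card (S.K ⊓ stabilizer G b : Subgroup G) ≤ 2 := by
    set T : Set Ω := S.blk b \ {b} with hT
    have hmaps : ∀ k ∈ (S.K ⊓ stabilizer G b), ∀ x ∈ T, k • x ∈ T := by
      rintro k ⟨hk, hkb⟩ x ⟨hx, hxb⟩
      refine ⟨?_, fun h => hxb ?_⟩
      · have := S.equiv k b x hk.1 hb hx
        rwa [show k • b = b from hkb] at this
      · exact MulAction.injective k ((Set.mem_singleton_iff.1 h).trans (hkb : k • b = b).symm)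
    let φ : (S.K ⊓ stabilizer G b : Subgroup G) → Equiv.Perm T := fun k =>
      Equiv.ofBijective (fun x => ⟨(k : G) • (x : Ω), hmaps k k.2 x x.2⟩)
        (Finite.injective_iff_bijective.1 fun x y h =>
          Subtype.ext (MulAction.injective (k : G) (congrArg Subtype.val h)))
    have hinj : Function.Injective φ := by
      intro k l h
      have h1 : (l : G)⁻¹ * k = 1 := by
        refine R.faithful_K hb (S.K.mul_mem (S.K.inv_mem l.2.1) k.2.1) fun c hc => ?_
        rw [mul_smul, inv_smul_eq_iff]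
        by_cases hcb : c = b
        · rw [hcb, (k.2.2 : (k : G) • b = b), (l.2.2 : (l : G) • b = b)]
        · exact congrArg (fun σ : Equiv.Perm T => ((σ ⟨c, hc, hcb⟩ : T) : Ω)) h
      exact Subtype.ext (inv_mul_eq_one.1 h1).symm
    refine (Nat.card_le_card_of_injective φ hinj).trans ?_
    rw [Nat.card_perm, Nat.card_coe_set_eq, hT, Set.ncard_sdiff_singleton_of_mem (S.mem b hb), S.size b hb, h3]
    rfl
  have hle : R.Z ≤ S.K := fun z hz => hz.2
  have hidx : (R.Z.subgroupOf S.K).index ≤ 2 := by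
    have h := (R.Z.subgroupOf S.K).card_mul_index
    rw [Nat.card_congr (Subgroup.subgroupOfEquivOfLe hle).toEquiv, R.card_Z, R.card_K hb] at h
    exact (Nat.eq_of_mul_eq_mul_left S.prime.pos h) ▸ hKb
  refine hNZ ((Subgroup.closure_le _).2 ?_)
  rintro x ⟨hx, hxp⟩
  rw [h3] at hxp
  have hsq : x ^ 2 ∈ R.Z := by
    have hne : (R.Z.subgroupOf S.K).index ≠ 0 := Subgroup.index_ne_zero_of_finite
    rcases (show (R.Z.subgroupOf S.K).index = 1 ∨ (R.Z.subgroupOf S.K).index = 2 by omega) with h | h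
    · have : (⟨x, hx⟩ : S.K) ∈ R.Z.subgroupOf S.K := by rw [Subgroup.index_eq_one.1 h]; trivial
      exact R.Z.pow_mem this 2
    · exact Subgroup.sq_mem_of_index_two h (⟨x, hx⟩ : S.K)
  have : x = (x ^ 2) ^ 2 := by rw [← pow_mul, show 2 * 2 = 3 + 1 from rfl, pow_add, hxp, one_mul, pow_one]
  rw [SetLike.mem_coe, this]
  exact R.Z.pow_mem hsq 2

/-- Transitivity of a point stabiliser of `N` on the rest of its block. -/
theorem N_two_transitive (hNZ : ¬ R.N ≤ R.Z) {b c d : Ω} (hb : b ≠ S.a) (hc : c ∈ S.blk b)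
    (hd : d ∈ S.blk b) (hcb : c ≠ b) (hdb : d ≠ b) :
    ∃ n ∈ R.N, n • b = b ∧ n • c = d := by
  classical
  have : Fact p.Prime := ⟨S.prime⟩
  have := Fintype.ofFinite Ω
  have hmaps : ∀ n : R.N, ∀ x ∈ S.blk b, (n : G) • x ∈ S.blk b := fun n x hx => by
    rw [← S.blk_eq b x hb hx]
    exact (R.N_le n.2).2 x (S.ne_of_mem hb hx)
  let φ : R.N →* Equiv.Perm (S.blk b) :=
  { toFun := fun n =>
      { toFun := fun x => ⟨(n : G) • (x : Ω), hmaps n x x.2⟩
        invFun := fun x => ⟨((n⁻¹ : R.N) : G) • (x : Ω), hmaps _ x x.2⟩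
        left_inv := fun x => Subtype.ext (by simp)
        right_inv := fun x => Subtype.ext (by simp) }
    map_one' := Equiv.ext fun x => Subtype.ext (one_smul _ _)
    map_mul' := fun m n => Equiv.ext fun x => Subtype.ext (mul_smul _ _ _) }
  have hφ : Function.Injective φ := by
    refine (injective_iff_map_eq_one φ).2 fun n hn => Subtype.ext ?_
    exact R.faithful_K hb (R.N_le n.2) fun x hx =>
      congrArg (fun σ : Equiv.Perm (S.blk b) => ((σ ⟨x, hx⟩ : S.blk b) : Ω)) hn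
  have : IsPretransitive φ.range (S.blk b) := by
    refine ⟨fun x y => ?_⟩
    obtain ⟨z, hz, hze⟩ := (R.blk_iff (S.ne_of_mem hb x.2)).1
      (show (y : Ω) ∈ S.blk x by rw [S.blk_eq b x hb x.2]; exact y.2)
    exact ⟨⟨φ ⟨z, R.Z_le_N hz⟩, ⟨_, rfl⟩⟩, Subtype.ext hze⟩
  have hcard : Fintype.card (S.blk b) = p := by
    rw [← Nat.card_eq_fintype_card, Nat.card_coe_set_eq, S.size b hb]
  rcases Cfsg.Agent.S0675.result (show Nat.Prime (Fintype.card (S.blk b)) by rw [hcard]; exact S.prime) φ.range with hsol | h2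
  · exfalso
    have hNsol : Group.IsSolvable R.N :=
      solvable_of_solvable_injective (f := φ.rangeRestrict) fun x y h => hφ (congrArg Subtype.val h)
    obtain ⟨k, hk⟩ := hNsol.1
    have hnt : Nontrivial R.N := by
      obtain ⟨z, hz, hz1⟩ := R.exists_ne_one
      exact ⟨⟨⟨z, R.Z_le_N hz⟩, 1, fun h => hz1 (congrArg Subtype.val h)⟩⟩
    obtain ⟨j, hj1, hj2⟩ : ∃ j, derivedSeries R.N j ≠ ⊥ ∧ derivedSeries R.N (j + 1) = ⊥ := by
      by_contra hcon
      push Not at hcon
      have : ∀ j, derivedSeries R.N j ≠ ⊥ := fun j => by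
        induction j with
        | zero => rw [derivedSeries_zero]; exact top_ne_bot
        | succ j ih => exact hcon j ih
      exact this k hk
    set A := derivedSeries R.N j with hA
    have : A.Normal := derivedSeries_normal _ j
    let T : Subgroup R.N := (stabilizer G b).subgroupOf R.N
    have hTcard : Nat.card T = Nat.card (R.N ⊓ stabilizer G b : Subgroup G) := by
      rw [← Subgroup.card_map_of_injective R.N.subtype_injective, Subgroup.subgroupOf_map_subtype,
        inf_comm]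
    have hTp : ¬ p ∣ Nat.card T := fun h => S.not_dvd_two hb (h.trans (hTcard.dvd.trans
      (Subgroup.card_dvd_of_le fun n hn => ⟨(R.N_le hn.1).1, hn.2⟩)))
    have hTidx : T.index = p := by
      have h := T.card_mul_index
      rw [R.N_inf_card hb, ← hTcard, mul_comm p] at h
      exact Nat.eq_of_mul_eq_mul_left Nat.card_pos h
    have hnot : ¬ A ≤ T := by
      intro hle
      refine hj1 ((Subgroup.eq_bot_iff_forall _).2 fun u hu => Subtype.ext ?_)
      refine R.faithful_K hb (R.N_le u.2) fun x hx => ?_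
      obtain ⟨z, hz, rfl⟩ := (R.blk_iff hb).1 hx
      have := hle (Subgroup.Normal.conj_mem (inferInstance : A.Normal) u hu ⟨z, R.Z_le_N hz⟩⁻¹)
      have h' : (z⁻¹ * (u : G) * z⁻¹⁻¹) • b = b := this
      rw [inv_inv, mul_smul, mul_smul, inv_smul_eq_iff] at h'
      exact h'
    have hlt : T < T ⊔ A := lt_of_le_of_ne le_sup_left fun h => hnot (le_sup_right.trans h.ge)
    have htop : T ⊔ A = ⊤ := by
      have hd : (T ⊔ A).index ∣ p := (Subgroup.index_dvd_of_le (le_sup_left : T ≤ T ⊔ A)).trans hTidx.dvd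
      rcases (Nat.dvd_prime S.prime).1 hd with h | h
      · exact Subgroup.index_eq_one.1 h
      · exact absurd (Subgroup.index_strictAnti hlt) (by rw [h, hTidx]; exact lt_irrefl p)
    have hAidx : ¬ p ∣ A.index := by
      intro h
      refine hTp (h.trans ?_)
      rw [← Subgroup.relIndex_top_right, ← htop, Subgroup.relIndex_sup_right]
      exact Subgroup.relIndex_dvd_card _ _
    have hmem : ∀ x : G, ∀ (hx : x ∈ R.N), x ^ p = 1 → (⟨x, hx⟩ : R.N) ∈ A := by
      intro x hx hxp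
      have h1 : orderOf (QuotientGroup.mk' A ⟨x, hx⟩) ∣ p := orderOf_dvd_of_pow_eq_one (by
        rw [← map_pow, show (⟨x, hx⟩ : R.N) ^ p = 1 from Subtype.ext hxp, map_one])
      have h2 : orderOf (QuotientGroup.mk' A ⟨x, hx⟩) ∣ A.index := by
        rw [Subgroup.index_eq_card]; exact orderOf_dvd_natCard _
      have := Nat.eq_one_of_dvd_coprimes (S.prime.coprime_iff_not_dvd.2 hAidx) h1 h2
      rwa [orderOf_eq_one_iff, QuotientGroup.mk'_apply, QuotientGroup.eq_one_iff] at this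
    refine hNZ ((Subgroup.closure_le _).2 ?_)
    rintro x ⟨hxK, hxp⟩
    refine R.mem_Z_of_commute hxK fun z hz => ?_
    have hxN : x ∈ R.N := Subgroup.subset_closure ⟨hxK, hxp⟩
    have hcomm : ⁅(⟨x, hxN⟩ : R.N), (⟨z, R.Z_le_N hz⟩ : R.N)⁆ = 1 := by
      rw [← Subgroup.mem_bot, ← hj2, derivedSeries_succ]
      exact Subgroup.commutator_mem_commutator (hmem x hxN hxp) (hmem z _ (R.pow_prime_Z hz))
    exact congrArg Subtype.val (commutatorElement_eq_one_iff_mul_comm.1 hcomm)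
  · have hx : (⟨b, S.mem b hb⟩ : S.blk b) ≠ ⟨c, hc⟩ := fun h => hcb (congrArg Subtype.val h).symm
    have hy : (⟨b, S.mem b hb⟩ : S.blk b) ≠ ⟨d, hd⟩ := fun h => hdb (congrArg Subtype.val h).symm
    obtain ⟨⟨_, ⟨n, rfl⟩⟩, hn1, hn2⟩ := MulAction.is_two_pretransitive_iff.1 h2 hx hy
    exact ⟨n, n.2, congrArg Subtype.val hn1, congrArg Subtype.val hn2⟩

/-- A point stabiliser of `N` has a fixed point in every other block. -/
theorem exists_fixed (hNZ : ¬ R.N ≤ R.Z) {b : Ω} (hb : b ≠ S.a) {y : G} (hy : y ∈ P)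
    (hyZ : y ∉ R.Z) : ∃ c ∈ S.blk (y • b), ∀ n ∈ R.N, n • b = b → n • c = c := by
  classical
  have : Fact p.Prime := ⟨S.prime⟩
  have := Fintype.ofFinite Ω
  obtain ⟨z, hz, hz1⟩ := R.exists_ne_one
  let zk : ZMod p → G := fun k => z ^ k.val
  have hzp : orderOf z = p := orderOf_eq_prime (R.pow_prime_Z hz) hz1
  have hzk_add : ∀ j k, zk (j + k) = zk j * zk k := by
    intro j k
    show z ^ (j + k).val = z ^ j.val * z ^ k.val
    rw [← pow_add, ZMod.val_add]
    conv_rhs => rw [← pow_mod_orderOf, hzp]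
  have hzk_mem : ∀ k, zk k ∈ R.Z := fun k => R.Z.pow_mem hz _
  have hzk_surj : ∀ w ∈ R.Z, ∃ k, zk k = w := by
    intro w hw
    obtain ⟨i, rfl⟩ := R.exists_zpow hz hz1 hw
    exact ⟨(i : ZMod p), by show z ^ (i : ZMod p).val = z ^ i; rw [ZMod.val_natCast, ← hzp, pow_mod_orderOf]⟩
  have hzk_inj : Function.Injective zk := fun j k h => ZMod.val_injective p
    (pow_injOn_Iio_orderOf (by rw [Set.mem_Iio, hzp]; exact j.val_lt)
      (by rw [Set.mem_Iio, hzp]; exact k.val_lt) h)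
  have hyi : ∀ i, y ^ i ∈ P := fun i => P.pow_mem hy i
  have hyb : y • b ≠ S.a := S.smul_ne (R.smul_a hy) hb
  let e : ℕ → ZMod p → Ω := fun i k => (zk k * y ^ i) • b
  have he_inj : ∀ i, Function.Injective (e i) := fun i j k h => hzk_inj (mul_right_cancel
    ((R.reg b _ hb (S.smul_ne (R.smul_a (P.mul_mem (hzk_mem k).1 (hyi i))) hb)).unique
      ⟨P.mul_mem (hzk_mem j).1 (hyi i), h⟩ ⟨P.mul_mem (hzk_mem k).1 (hyi i), rfl⟩))
  let rel : Ω → Ω → Prop := fun u v => ∃ n ∈ R.N, ∃ w ∈ P, u = (n * w) • b ∧ v = (n * w * y) • b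
  let A : Ω → Ω → ℚ := fun u v => if rel u v then 1 else 0
  let M : ℕ → Ω → Ω → ℚ := fun i => Nat.rec (fun u v => if u = v then 1 else 0)
    (fun _ prev u v => ∑ x, prev u x * A x v) i
  have hrel : ∀ g, g ∈ R.N ∨ g ∈ P → ∀ u v, rel u v → rel (g • u) (g • v) := by
    rintro g hg u v ⟨n, hn, w, hw, rfl, rfl⟩
    rcases hg with hg | hg
    · exact ⟨g * n, R.N.mul_mem hg hn, w, hw, by rw [smul_smul, mul_assoc],
        by rw [smul_smul]; simp only [mul_assoc]⟩
    · exact ⟨g * n * g⁻¹, R.N_normal (R.smul_a hg) hn, g * w, P.mul_mem hg hw,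
        by rw [smul_smul]; congr 1; group, by rw [smul_smul]; congr 1; group⟩
  have hA : ∀ g, g ∈ R.N ∨ g ∈ P → ∀ u v, A (g • u) (g • v) = A u v := by
    intro g hg u v
    have hgi : g⁻¹ ∈ R.N ∨ g⁻¹ ∈ P := hg.imp R.N.inv_mem P.inv_mem
    refine if_congr ⟨fun h => ?_, hrel g hg u v⟩ rfl rfl
    have := hrel g⁻¹ hgi _ _ h
    rwa [inv_smul_smul, inv_smul_smul] at this
  have hM : ∀ g, g ∈ R.N ∨ g ∈ P → ∀ i u v, M i (g • u) (g • v) = M i u v := by
    intro g hg i
    induction i with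
    | zero =>
      intro u v
      exact if_congr (MulAction.injective g).eq_iff rfl rfl
    | succ i ih =>
      intro u v
      show ∑ x, M i (g • u) x * A x (g • v) = ∑ x, M i u x * A x v
      refine (Fintype.sum_equiv (MulAction.toPerm g) _ _ fun x => ?_).symm
      show M i u x * A x v = M i (g • u) (g • x) * A (g • x) (g • v)
      rw [ih, hA g hg]
  have hfib : ∀ v, rel b v ↔ ∃ n ∈ R.N, n • b = b ∧ n • y • b = v := by
    intro v
    constructor
    · rintro ⟨n, hn, w, hw, h1, rfl⟩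
      have hwb : w • b ∈ S.blk b := by
        have h' : w • b = n⁻¹ • b := by rw [eq_inv_smul_iff, smul_smul]; exact h1.symm
        rw [h']
        exact (R.N_le (R.N.inv_mem hn)).2 b hb
      exact ⟨n * w, R.N.mul_mem hn (R.Z_le_N (R.mem_Z_of_smul_mem hw hb hwb)), h1.symm,
        by rw [smul_smul]⟩
    · rintro ⟨n, hn, h1, rfl⟩
      exact ⟨n, hn, 1, P.one_mem, by rw [mul_one, h1], by rw [mul_one, mul_smul]⟩
  have hfib' : ∀ v, rel b v → v ∈ S.blk (y • b) := by
    intro v hv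
    obtain ⟨n, hn, -, rfl⟩ := (hfib v).1 hv
    exact (R.N_le hn).2 _ hyb
  let f : ZMod p → ℚ := fun k => A b (e 1 k)
  have he1 : ∀ v ∈ S.blk (y • b), ∃ k, e 1 k = v := by
    intro v hv
    obtain ⟨w, hw, rfl⟩ := (R.blk_iff hyb).1 hv
    obtain ⟨k, rfl⟩ := hzk_surj w hw
    exact ⟨k, by show (zk k * y ^ 1) • b = _; rw [pow_one, mul_smul]⟩
  have hshift : ∀ i j v, A (e i j) v = A b ((zk j * y ^ i)⁻¹ • v) := by
    intro i j v
    have := hA (zk j * y ^ i) (Or.inr (P.mul_mem (hzk_mem j).1 (hyi i))) b ((zk j * y ^ i)⁻¹ • v)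
    rwa [smul_inv_smul] at this
  have hsupp : ∀ i v, M i b v ≠ 0 → ∃ k, e i k = v := by
    intro i
    induction i with
    | zero =>
      intro v hv
      have hbv : b = v := by by_contra h; exact hv (if_neg h)
      exact ⟨0, by show (z ^ (0 : ZMod p).val * y ^ 0) • b = v; simp [hbv]⟩
    | succ i ih =>
      intro v hv
      obtain ⟨x, -, hx⟩ := Finset.exists_ne_zero_of_sum_ne_zero
        (show ∑ x, M i b x * A x v ≠ 0 from hv)
      obtain ⟨j, rfl⟩ := ih x (left_ne_zero_of_mul hx)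
      have hA1 := right_ne_zero_of_mul hx
      rw [hshift] at hA1
      have hr : rel b ((zk j * y ^ i)⁻¹ • v) := by by_contra h; exact hA1 (if_neg h)
      obtain ⟨k, hk⟩ := he1 _ (hfib' _ hr)
      refine ⟨j + k, ?_⟩
      rw [eq_inv_smul_iff] at hk
      rw [← hk]
      show (zk (j + k) * y ^ (i + 1)) • b = (zk j * y ^ i) • (zk k * y ^ 1) • b
      rw [smul_smul, hzk_add, pow_succ, pow_one]
      congr 1
      rw [show zk j * y ^ i * (zk k * y) = zk j * (y ^ i * zk k) * y by group,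
        R.comm (hyi i) (hzk_mem k).1]
      group
  let F : ℕ → ZMod p → ℚ := fun i k => M i b (e i k)
  have hF0 : ∀ k, F 0 k = if k = 0 then 1 else 0 := by
    intro k
    refine if_congr ⟨fun h => he_inj 0 (h.symm.trans ?_), fun h => ?_⟩ rfl rfl
    · show b = (z ^ (0 : ZMod p).val * y ^ 0) • b
      simp
    · subst h
      show b = (z ^ (0 : ZMod p).val * y ^ 0) • b
      simp
  have hFs : ∀ i k, F (i + 1) k = ∑ j, F i j * f (k - j) := by
    intro i k
    refine (Fintype.sum_of_injective (e i) (he_inj i) _ _ (fun x hx => ?_) fun j => ?_).symm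
    · have : M i b x = 0 := by
        by_contra h
        exact hx (hsupp i x h)
      exact mul_eq_zero_of_left this _
    · show M i b (e i j) * A b (e 1 (k - j)) = M i b (e i j) * A (e i j) (e (i + 1) k)
      rw [hshift]
      congr 2
      rw [eq_inv_smul_iff]
      show (zk j * y ^ i) • (zk (k - j) * y ^ 1) • b = (zk k * y ^ (i + 1)) • b
      rw [smul_smul]
      congr 1
      conv_rhs => rw [← add_sub_cancel j k, hzk_add, pow_succ]
      rw [pow_one, show zk j * y ^ i * (zk (k - j) * y) = zk j * (y ^ i * zk (k - j)) * y by group,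
        R.comm (hyi i) (hzk_mem _).1]
      group
  obtain ⟨s, hs⟩ : ∃ s, zk s = y ^ p := by
    refine hzk_surj _ ?_
    have hle : R.Z ≤ P := fun w hw => hw.1
    have hn : (R.Z.subgroupOf P).Normal := ⟨fun u hu v => by
      show (v : G) * u * (v : G)⁻¹ ∈ R.Z
      rw [R.comm v.2 u.2, mul_inv_cancel_right]; exact hu⟩
    have hidx : (R.Z.subgroupOf P).index = p := by
      have h := (R.Z.subgroupOf P).card_mul_index
      rw [Nat.card_congr (Subgroup.subgroupOfEquivOfLe hle).toEquiv, R.card_Z, R.card, pow_two] at h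
      exact Nat.eq_of_mul_eq_mul_left S.prime.pos h
    have := Subgroup.pow_index_mem (R.Z.subgroupOf P) (⟨y, hy⟩ : P)
    rw [hidx] at this
    exact this
  have hep : ∀ k, e p k = zk (k + s) • b := fun k => by
    show (zk k * y ^ p) • b = _
    rw [← hs, hzk_add]
  have hoff : ∃ c : ℚ, ∀ k, k ≠ -s → F p k = c := by
    refine ⟨F p (1 - s), fun k hk => ?_⟩
    have hzb : ∀ w, w ≠ 0 → zk w • b ≠ b := fun w hw h => hw (hzk_inj
      ((R.eq_one (hzk_mem w).1 hb h).trans (by show 1 = z ^ (0 : ZMod p).val; simp)))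
    obtain ⟨n, hn, hnb, hnc⟩ := R.N_two_transitive hNZ hb
      ((R.blk_iff hb).2 ⟨_, hzk_mem (k + s), rfl⟩) ((R.blk_iff hb).2 ⟨_, hzk_mem (1 : ZMod p), rfl⟩)
      (hzb _ fun h => hk (eq_neg_of_add_eq_zero_left h)) (hzb _ one_ne_zero)
    show M p b (e p k) = M p b (e p (1 - s))
    rw [hep, hep, sub_add_cancel, ← hnc]
    have := hM n (Or.inl hn) p b (zk (k + s) • b)
    rw [hnb] at this
    exact this.symm
  have hnc : ∃ i j, f i ≠ f j := by
    by_contra hall
    push Not at hall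
    have hrelb : rel b (y • b) := (hfib _).2 ⟨1, R.N.one_mem, one_smul _ _, one_smul _ _⟩
    have hallrel : ∀ v ∈ S.blk (y • b), rel b v := by
      intro v hv
      obtain ⟨k, rfl⟩ := he1 v hv
      obtain ⟨k₀, hk₀⟩ := he1 _ (S.mem _ hyb)
      by_contra h
      have := hall k k₀
      simp [f, A, if_neg h, hk₀, if_pos hrelb] at this
    have horb : orbit (R.N ⊓ stabilizer G b : Subgroup G) (y • b) = S.blk (y • b) := by
      ext v
      constructor
      · rintro ⟨⟨n, hn⟩, rfl⟩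
        exact (R.N_le hn.1).2 _ hyb
      · intro hv
        obtain ⟨n, hn, hnb, rfl⟩ := (hfib v).1 (hallrel v hv)
        exact ⟨⟨n, hn, hnb⟩, rfl⟩
    refine S.not_dvd_two hb (dvd_trans ?_ (Subgroup.card_dvd_of_le
      (fun n hn => ⟨(R.N_le hn.1).1, hn.2⟩ : R.N ⊓ stabilizer G b ≤ two S.a b)))
    have h := orbit_stabilizer_subgroup (R.N ⊓ stabilizer G b) (y • b)
    rw [horb, Nat.card_coe_set_eq, S.size _ hyb] at h
    exact Dvd.intro _ h
  obtain ⟨c, hc⟩ := hoff
  obtain ⟨u, hu⟩ := eq_off_of_power S.odd f hnc F hF0 hFs (-s) c hc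
  refine ⟨e 1 u, (R.blk_iff hyb).2 ⟨zk u, hzk_mem u, by show _ = (zk u * y ^ 1) • b; rw [pow_one, mul_smul]⟩,
    fun n hn hnb => ?_⟩
  have hne : n • (y • b) ≠ S.a := S.smul_ne (R.N_le hn).1 hyb
  obtain ⟨k, hk⟩ := he1 (n • e 1 u) (by
    have := S.equiv n (y • b) (e 1 u) (R.N_le hn).1 hyb ((R.blk_iff hyb).2
      ⟨zk u, hzk_mem u, by show _ = (zk u * y ^ 1) • b; rw [pow_one, mul_smul]⟩)
    rwa [S.blk_eq _ _ hyb ((R.N_le hn).2 _ hyb)] at this)
  by_contra hmove
  have hku : k ≠ u := fun h => hmove (by rw [← hk, h])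
  have hfe : f k = f u := by
    show A b (e 1 k) = A b (e 1 u)
    rw [hk]
    conv_lhs => rw [← hnb]
    rw [hA n (Or.inl hn)]
  obtain ⟨i, j, hij⟩ := hnc
  have hall : ∀ i, f i = f u := fun i => by
    by_cases h : i = u
    · rw [h]
    · rw [hu i k h hku, hfe]
  exact hij ((hall i).trans (hall j).symm)

theorem zNormal : R.ZNormal := by
  intro h hh z hz
  by_cases hNZ : R.N ≤ R.Z
  · exact hNZ (R.N_normal hh (R.Z_le_N hz))
  exfalso
  have : Fact p.Prime := ⟨S.prime⟩
  obtain ⟨y, hy, hyZ⟩ : ∃ y ∈ P, y ∉ R.Z := by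
    by_contra hcon
    push Not at hcon
    have h1 : P = R.Z := le_antisymm hcon fun w hw => hw.1
    have h2 := R.card_Z
    rw [← h1, R.card] at h2
    have := S.prime.one_lt
    nlinarith
  have hbody : ∀ b, b ≠ S.a → (fix (R.N ⊓ stabilizer G b) : Set Ω).ncard = p + 1 ∧
      fix (R.N ⊓ stabilizer G b) = (fix (S.K ⊓ stabilizer G b) : Set Ω) ∧
      ∀ c, c ≠ S.a → ∃ g ∈ S.blk c, g ∈ fix (R.N ⊓ stabilizer G b) ∧
        R.N ⊓ stabilizer G g = R.N ⊓ stabilizer G b := by
    intro b hb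
    obtain ⟨c₁, hc₁, hfix⟩ := R.exists_fixed hNZ hb hy hyZ
    have hc₁a := S.ne_of_mem (S.smul_ne (R.smul_a hy) hb) hc₁
    obtain ⟨w, hw, rfl⟩ := R.exists_mem hb hc₁a
    have hwZ : w ∉ R.Z := fun hwZ => hyZ (R.mem_Z_of_smul_mem hy hb (by
      rw [← S.blk_eq b _ hb ((R.blk_iff hb).2 ⟨w, hwZ, rfl⟩),
        S.blk_eq _ _ (S.smul_ne (R.smul_a hy) hb) hc₁]
      exact S.mem _ (S.smul_ne (R.smul_a hy) hb)))
    have heq := R.N_inf_eq hb hc₁a hfix
    have hfixj : ∀ j : ℕ, w ^ j • b ∈ (fix (R.N ⊓ stabilizer G b) : Set Ω) := by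
      intro j
      induction j with
      | zero => intro n hn; rw [pow_zero, one_smul]; exact hn.2
      | succ j ih =>
        intro n hn
        rw [← heq] at hn
        have hn' : w⁻¹ * n * w ∈ R.N ⊓ stabilizer G b := by
          refine ⟨?_, ?_⟩
          · have := R.N_normal (R.smul_a (P.inv_mem hw)) hn.1
            rwa [inv_inv] at this
          · show (w⁻¹ * n * w) • b = b
            rw [mul_smul, mul_smul, (hn.2 : n • w • b = w • b), inv_smul_smul]
        have := ih _ hn'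
        rw [mul_smul, mul_smul, inv_smul_eq_iff] at this
        rw [pow_succ', mul_smul]
        exact this
    set F : Set Ω := (fun j : Fin p => w ^ (j : ℕ) • b) '' Set.univ with hF
    have hone' : ∀ i j : Fin p, w ^ (i : ℕ) • b ∈ S.blk (w ^ (j : ℕ) • b) → i = j := by
      intro i j h
      by_contra hne
      refine hwZ ?_
      have h' : ((w ^ (j : ℕ))⁻¹ * w ^ (i : ℕ)) ∈ R.Z := by
        refine R.mem_Z_of_smul_mem (P.mul_mem (P.inv_mem (P.pow_mem hw _)) (P.pow_mem hw _)) hb ?_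
        have := S.equiv (w ^ (j : ℕ))⁻¹ _ _ (R.smul_a (P.inv_mem (P.pow_mem hw _)))
          (S.smul_ne (R.smul_a (P.pow_mem hw _)) hb) h
        rwa [inv_smul_smul, smul_smul] at this
      have key : ∀ a' b' : ℕ, a' < b' → b' < p → (w ^ a')⁻¹ * w ^ b' ∈ R.Z → w ∈ R.Z := by
        intro a' b' hab hbp hmem
        obtain ⟨d, rfl⟩ : ∃ d, b' = a' + d := ⟨b' - a', by omega⟩
        rw [pow_add, inv_mul_cancel_left] at hmem
        have hwp : orderOf w ∣ p ^ 2 := R.card ▸ Subgroup.orderOf_dvd_natCard P hw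
        have hco : (orderOf w).Coprime d := Nat.Coprime.coprime_dvd_left hwp
          ((S.prime.coprime_iff_not_dvd.2 fun hd => by
            have := Nat.le_of_dvd (by omega) hd; omega).pow_left 2)
        obtain ⟨m, hm⟩ := exists_pow_eq_self_of_coprime hco.symm
        rw [← hm]
        exact R.Z.pow_mem hmem m
      rcases Nat.lt_or_gt_of_ne (fun e => hne (Fin.ext e)) with hlt | hlt
      · refine key _ _ hlt j.2 ?_
        have := R.Z.inv_mem h'
        rwa [mul_inv_rev, inv_inv] at this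
      · exact key _ _ hlt i.2 h'
    have hFne : ∀ c ∈ F, c ≠ S.a := by
      rintro _ ⟨j, -, rfl⟩
      exact S.smul_ne (R.smul_a (P.pow_mem hw _)) hb
    have hFcard : F.ncard = p := by
      rw [hF, Set.ncard_image_of_injective, Set.ncard_univ, Nat.card_fin]
      intro i j h
      exact hone' i j (h ▸ S.mem _ (hFne _ ⟨j, trivial, rfl⟩) |> fun h' => by
        simpa [h] using h')
    have hmeet : ∀ c, c ≠ S.a → ∃ g ∈ S.blk c, g ∈ fix (R.N ⊓ stabilizer G b) ∧ g ∈ F ∧
        R.N ⊓ stabilizer G g = R.N ⊓ stabilizer G b := by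
      intro c hc
      obtain ⟨g, hg, hgc⟩ := R.meets_all hFne hFcard (by
        rintro _ ⟨i, -, rfl⟩ _ ⟨j, -, rfl⟩ h
        rw [hone' j i h]) hc
      obtain ⟨j, -, rfl⟩ := hg
      exact ⟨_, hgc, hfixj j, ⟨j, trivial, rfl⟩, R.N_inf_eq hb (S.ne_of_mem hc hgc)
        fun n hn hnb => hfixj j n ⟨hn, hnb⟩⟩
    have huniq : ∀ c g, c ≠ S.a → g ∈ S.blk c → R.N ⊓ stabilizer G g = R.N ⊓ stabilizer G b →
        c ∈ (fix (R.N ⊓ stabilizer G b) : Set Ω) → c = g := by
      intro c g hc hg hgb hcfix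
      by_contra hne
      have hga := S.ne_of_mem hc hg
      have hbg : S.blk g = S.blk c := S.blk_eq c g hc hg
      obtain ⟨d, hd, hdne⟩ : ∃ d ∈ S.blk c \ {g}, d ≠ c := by
        refine Set.exists_ne_of_one_lt_ncard ?_ c
        rw [Set.ncard_sdiff_singleton_of_mem hg, S.size c hc]
        have := S.three_le; omega
      obtain ⟨n, hn, hng, hnc⟩ := R.N_two_transitive hNZ hga (hbg.symm ▸ S.mem c hc)
        (hbg.symm ▸ hd.1) hne hd.2
      refine hdne ?_
      rw [← hnc, hcfix n (hgb ▸ ⟨hn, hng⟩)]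
    have hfixeq : (fix (R.N ⊓ stabilizer G b) : Set Ω) = insert S.a F := by
      refine Set.Subset.antisymm (fun c hc => ?_) (Set.insert_subset (fun n hn => (R.N_le hn.1).1) ?_)
      · by_cases hca : c = S.a
        · exact Or.inl hca
        right
        obtain ⟨g, hg, -, hgF, hgb⟩ := hmeet c hca
        rw [huniq c g hca hg hgb hc]
        exact hgF
      · rintro _ ⟨j, -, rfl⟩
        exact hfixj j
    refine ⟨?_, Set.Subset.antisymm (fun c hc k hk => ?_) (fun c hc n hn => hc n ⟨R.N_le hn.1, hn.2⟩),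
      fun c hc => ?_⟩
    · rw [hfixeq, Set.ncard_insert_of_notMem (fun h => hFne _ h rfl), hFcard]
    · by_cases hca : c = S.a
      · exact hca ▸ hk.1.1
      obtain ⟨g, hg, -, -, hgb⟩ := hmeet c hca
      have hkc : k • c ∈ fix (R.N ⊓ stabilizer G b) := by
        intro n hn
        have hn' : k⁻¹ * n * k ∈ R.N ⊓ stabilizer G b := by
          refine ⟨?_, ?_⟩
          · have := R.N_normal (S.K.inv_mem hk.1).1 hn.1
            rwa [inv_inv] at this
          · show (k⁻¹ * n * k) • b = b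
            rw [mul_smul, mul_smul, (hk.2 : k • b = b), (hn.2 : n • b = b), inv_smul_eq_iff]
            exact (hk.2 : k • b = b).symm
        have := hc _ hn'
        rwa [mul_smul, mul_smul, inv_smul_eq_iff] at this
      rw [huniq _ g (S.smul_ne hk.1.1 hca) (by rw [S.blk_eq c _ hca (hk.1.2 c hca)]; exact hg) hgb hkc,
        ← huniq c g hca hg hgb hc]
    · obtain ⟨g, hg, hg1, -, hg2⟩ := hmeet c hc
      exact ⟨g, hg, hg1, hg2⟩
  have hcl : R.LineClass := by
    rintro b hb W ⟨E, hE, hEn, rfl, hW⟩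
    obtain ⟨hcard, hKeq, hmeet⟩ := hbody b hb
    by_cases hsub : (fix E : Set Ω) ⊆ fix (R.N ⊓ stabilizer G b)
    · right
      rw [← hKeq]
      exact Set.eq_of_subset_of_ncard_le hsub (by rw [hW, hcard])
    obtain ⟨c, hc, hcn⟩ := Set.not_subset.1 hsub
    have hca : c ≠ S.a := fun h => hcn (h ▸ fun n hn => (R.N_le hn.1).1)
    obtain ⟨g, hg, hg1, hg2⟩ := hmeet c hca
    have hga := S.ne_of_mem hca hg
    have hbg := S.blk_eq c g hca hg
    have hcg : c ≠ g := fun h => hcn (h ▸ hg1)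
    have hrest : ∀ d ∈ S.blk c, d ≠ g → d ∈ (fix E : Set Ω) := by
      intro d hd hdg
      obtain ⟨n, hn, hng, hnc⟩ := R.N_two_transitive hNZ hga (hbg.symm ▸ S.mem c hca)
        (hbg.symm ▸ hd) hcg hdg
      intro e he
      have hn2 : n ∈ R.N ⊓ stabilizer G b := hg2 ▸ ⟨hn, hng⟩
      have hi : n⁻¹ ∈ (two S.a b : Subgroup G) :=
        (two S.a b : Subgroup G).inv_mem ⟨(R.N_le hn).1, hn2.2⟩
      have := hc _ (hEn n⁻¹ hi e he)
      rw [inv_inv, mul_smul, mul_smul, hnc, inv_smul_eq_iff, hnc] at this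
      exact this
    have hgE : g ∈ (fix E : Set Ω) := by
      intro e he
      by_contra hne
      have hin : e • g ∈ S.blk c := by
        have := S.equiv e c g (hE he).1 hca hg
        rwa [hc e he] at this
      have h1 := hrest (e • g) hin hne e he
      exact hne (MulAction.injective e h1)
    have hblk : S.blk c ⊆ fix E := fun d hd => by
      by_cases h : d = g
      · exact h ▸ hgE
      · exact hrest d hd h
    by_cases hbc : b ∈ S.blk c
    · left
      rw [← S.blk_eq c b hca hbc] at hblk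
      refine (Set.eq_of_subset_of_ncard_le (Set.insert_subset
        (show S.a ∈ fix E from fun g hg => (hE hg).1) hblk) ?_).symm
      rw [hW, Set.ncard_insert_of_notMem (S.not_mem b hb), S.size b hb]
    · exfalso
      have hbig : insert S.a (insert b (S.blk c)) ⊆ (fix E : Set Ω) :=
        Set.insert_subset (fun g hg => (hE hg).1) (Set.insert_subset (fun g hg => (hE hg).2) hblk)
      have := Set.ncard_le_ncard hbig
      rw [hW, Set.ncard_insert_of_notMem, Set.ncard_insert_of_notMem hbc, S.size c hca] at this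
      · omega
      · simp only [Set.mem_insert_iff, not_or]
        exact ⟨hb.symm, S.not_mem c hca⟩
  obtain ⟨b, hb⟩ := S.exists_ne
  obtain ⟨hcard, -, -⟩ := hbody b hb
  refine R.ne_three hNZ (R.p_eq_three hcl hb (W₀ := fix (R.N ⊓ stabilizer G b))
    ⟨R.N ⊓ stabilizer G b, fun n hn => ⟨(R.N_le hn.1).1, hn.2⟩, fun t ht n hn => ⟨R.N_normal ht.1 hn.1, ?_⟩,
      rfl, hcard⟩)
  show (t * n * t⁻¹) • b = b
  rw [mul_smul, mul_smul, inv_smul_eq_iff.2 ht.2.symm, (hn.2 : n • b = b), ht.2]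

end Regular

end Setup

end Cfsg.Agent.PSqPlus
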